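import Groth.Agent.EtMV.DepthIff
import Groth.Agent.EtMV.DepthMono
import Groth.Agent.RDerLib.LES
import Groth.Agent.EtPushStalk.Counit
import Groth.Agent.EtPushStalk.Lift
import Groth.Agent.EtPBC.StalkZero
import Groth.Agent.EtHens.Basic
import Groth.Agent.EtAcycX.Edge
import Mathlib

/-!
# Etale depth in short exact sequences, depth of direct images, global criterion
-/

set_option autoImplicit false
set_option backward.isDefEq.respectTransparency false
set_option backward.isDefEq.respectTransparency.types false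
set_option linter.unusedSectionVars false
set_option linter.style.haveILetI false
set_option maxHeartbeats 1000000
set_option synthInstance.maxHeartbeats 400000

universe u v w

open CategoryTheory CategoryTheory.Limits CategoryTheory.Abelian AlgebraicGeometry Opposite

noncomputable section

namespace Groth.Agent.EtDepthX

attribute [local instance 100000] EtCoh.H._proof_1 Groth.Agent.EtMV.hext
attribute [local instance 200000] Groth.Agent.EtMV.hextAb

open EtMV (γH lcι)
open EtDepth (DepthGE)

variable {X U : Scheme.{u}} (j : U ⟶ X)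

theorem depthGE_zero (F : EtCoh.Ab X) : DepthGE j F 0 := fun p hp => absurd hp p.not_lt_zero

theorem depthGE_mono_n {F : EtCoh.Ab X} {n m : ℕ} (hmn : m ≤ n) (h : DepthGE j F n) : DepthGE j F m :=
  fun p hp => h p (lt_of_lt_of_le hp hmn)

theorem depthGE_of_iso {F G : EtCoh.Ab X} (e : F ≅ G) {n : ℕ} (h : DepthGE j F n) : DepthGE j G n :=
  fun p hp => (h p hp).of_iso ((EtDual.locCoh j p).mapIso e).symm

theorem depthGE_one_iff (F : EtCoh.Ab X) : DepthGE j F 1 ↔ IsZero ((EtDual.secSupp j).obj F) := by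
  haveI := EtMV.preservesFiniteLimits_secSupp j
  refine ⟨fun h => (h 0 one_pos).of_iso ((EtDual.secSupp j).rightDerivedZeroIsoSelf.app F).symm, fun h p hp => ?_⟩
  obtain rfl : p = 0 := by omega
  exact h.of_iso ((EtDual.secSupp j).rightDerivedZeroIsoSelf.app F)

theorem isZero_secSupp_of_depthGE {F : EtCoh.Ab X} {n : ℕ} (hn : 1 ≤ n) (h : DepthGE j F n) :
    IsZero ((EtDual.secSupp j).obj F) :=
  (depthGE_one_iff j F).1 (depthGE_mono_n j hn h)

theorem isZero_secSupp_of_mono {F G : EtCoh.Ab X} (f : F ⟶ G) [Mono f]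
    (h : IsZero ((EtDual.secSupp j).obj G)) : IsZero ((EtDual.secSupp j).obj F) := by
  haveI := EtMV.preservesFiniteLimits_secSupp j
  exact IsZero.of_mono ((EtDual.secSupp j).map f) h

section SES

variable {S : ShortComplex (EtCoh.Ab X)} (hS : S.ShortExact) {n : ℕ}

include hS in
theorem depthGE_mid (h₁ : DepthGE j S.X₁ n) (h₃ : DepthGE j S.X₃ n) : DepthGE j S.X₂ n := fun p hp =>
  ((RDerLib.derivedLES (EtDual.secSupp j)).exact₂ S hS p).isZero_of_both_zeros ((h₁ p hp).eq_of_src _ _)
    ((h₃ p hp).eq_of_tgt _ _)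

include hS in
theorem depthGE_left (h₂ : DepthGE j S.X₂ (n + 1)) (h₃ : DepthGE j S.X₃ n) : DepthGE j S.X₁ (n + 1) := by
  intro p hp
  cases p with
  | zero =>
    haveI := hS.mono_f
    haveI := EtMV.preservesFiniteLimits_secSupp j
    exact (isZero_secSupp_of_mono j S.f
      ((h₂ 0 hp).of_iso ((EtDual.secSupp j).rightDerivedZeroIsoSelf.app S.X₂).symm)).of_iso
        ((EtDual.secSupp j).rightDerivedZeroIsoSelf.app S.X₁)
  | succ q =>
    exact ((RDerLib.derivedLES (EtDual.secSupp j)).exact₁ S hS q (q + 1) rfl).isZero_of_both_zeros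
      ((h₃ q (by omega)).eq_of_src _ _) ((h₂ (q + 1) hp).eq_of_tgt _ _)

include hS in
theorem depthGE_right (h₂ : DepthGE j S.X₂ n) (h₁ : DepthGE j S.X₁ (n + 1)) : DepthGE j S.X₃ n := fun p hp =>
  ((RDerLib.derivedLES (EtDual.secSupp j)).exact₃ S hS p (p + 1) rfl).isZero_of_both_zeros
    ((h₂ p hp).eq_of_src _ _) ((h₁ (p + 1) (by omega)).eq_of_tgt _ _)

end SES

section Push

variable [IsOpenImmersion j]

theorem isIso_counit (M : EtCoh.Ab U) : IsIso ((EtCoh.pullPushAdj j).counit.app M) :=
  EtPushStalk.isIso_counit j (EtPushStalk.liftProp_of_openImmersion j) M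

theorem isIso_unit_push (M : EtCoh.Ab U) : IsIso (EtDual.unitApp j ((EtCoh.push j).obj M)) := by
  haveI := isIso_counit j M
  have h := (EtCoh.pullPushAdj j).right_triangle_components M
  haveI : IsIso ((EtCoh.pullPushAdj j).unit.app ((EtCoh.push j).obj M) ≫
      (EtCoh.push j).map ((EtCoh.pullPushAdj j).counit.app M)) := by
    rw [show _ = _ from h]; exact IsIso.id _
  exact IsIso.of_isIso_comp_right _ ((EtCoh.push j).map ((EtCoh.pullPushAdj j).counit.app M))

theorem isZero_secSupp_push (M : EtCoh.Ab U) : IsZero ((EtDual.secSupp j).obj ((EtCoh.push j).obj M)) := by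
  haveI := isIso_unit_push j M
  exact isZero_kernel_of_mono (EtDual.unitApp j ((EtCoh.push j).obj M))

/-- depth of direct images from the complement -/
theorem depthGE_push (M : EtCoh.Ab U) (n : ℕ)
    (hR : ∀ q : ℕ, 1 ≤ q → q + 1 < n → IsZero ((EtCoh.Rpush j q).obj M)) :
    DepthGE j ((EtCoh.push j).obj M) n := by
  intro p hp
  match p, hp with
  | 0, _ =>
    haveI := EtMV.preservesFiniteLimits_secSupp j
    exact (isZero_secSupp_push j M).of_iso ((EtDual.secSupp j).rightDerivedZeroIsoSelf.app _)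
  | 1, _ =>
    obtain ⟨e⟩ := EtMV.nonempty_locCoh_one j ((EtCoh.push j).obj M)
    haveI := isIso_unit_push j M
    exact (isZero_cokernel_of_epi _).of_iso e.symm
  | q + 2, hp =>
    obtain ⟨e⟩ := EtMV.nonempty_locCoh_succ j ((EtCoh.push j).obj M) (q + 1) (by omega)
    haveI := isIso_counit j M
    exact (hR (q + 1) (by omega) hp).of_iso
      (e.symm ≪≫ (EtCoh.Rpush j (q + 1)).mapIso (asIso ((EtCoh.pullPushAdj j).counit.app M)))

/-- restriction kills the sections with support -/
theorem isZero_pull_secSupp (F : EtCoh.Ab X) : IsZero ((EtCoh.pull j).obj ((EtDual.secSupp j).obj F)) := by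
  haveI := EtPullExact.pull_preservesFiniteLimits j
  haveI := isIso_counit j ((EtCoh.pull j).obj F)
  haveI : IsIso ((EtCoh.pull j).map (EtDual.unitApp j F)) := by
    have h := (EtCoh.pullPushAdj j).left_triangle_components F
    haveI : IsIso ((EtCoh.pull j).map (EtDual.unitApp j F) ≫
        (EtCoh.pullPushAdj j).counit.app ((EtCoh.pull j).obj F)) := by
      rw [show _ = _ from h]; exact IsIso.id _
    exact IsIso.of_isIso_comp_right _ ((EtCoh.pullPushAdj j).counit.app ((EtCoh.pull j).obj F))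
  haveI := EtMV.mono_lcι j F
  haveI : Mono ((EtCoh.pull j).map ((lcι j).app F)) := inferInstance
  have hz : (EtCoh.pull j).map ((lcι j).app F) ≫ (EtCoh.pull j).map (EtDual.unitApp j F) = 0 := by
    rw [← Functor.map_comp]
    show (EtCoh.pull j).map (kernel.ι (EtDual.unitApp j F) ≫ EtDual.unitApp j F) = 0
    rw [kernel.condition, Functor.map_zero]
  exact IsZero.of_mono_eq_zero _ (zero_of_comp_mono ((EtCoh.pull j).map (EtDual.unitApp j F)) hz)

end Push

section Global

variable [IsOpenImmersion j] [PreservesFiniteLimits (EtCoh.pull j)]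

/-- the restriction condition on the scheme itself -/
def GH (F : EtCoh.Ab X) (n : ℕ) : Prop :=
  (∀ p, p + 1 < n → Function.Bijective (γH j F p)) ∧ (∀ p, p + 1 = n → Function.Injective (γH j F p))

theorem injective_γH_zero {F : EtCoh.Ab X} (h : IsZero ((EtDual.secSupp j).obj F)) :
    Function.Injective (γH j F 0) := by
  rw [EtMV.γH_zero_injective_iff]
  intro s hs
  obtain ⟨t, ht⟩ := EtFLC.exists_kernel_sect (EtDual.unitApp j F) s hs
  haveI := AddCommGrpCat.subsingleton_of_isZero ((EtMV.Γ₀ X).map_isZero h)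
  rw [← ht, Subsingleton.elim (α := (EtMV.Γ₀ X).obj ((EtDual.secSupp j).obj F)) t 0]
  exact map_zero _

/-- supported sheaves are detected by global sections -/
def GlobalDetect : Prop :=
  ∀ F : EtCoh.Ab X, Function.Injective (γH j F 0) → IsZero ((EtDual.secSupp j).obj F)

theorem gh_iff_aux (n : ℕ) : ∀ F : EtCoh.Ab X,
    (DepthGE j F n → GH j F n) ∧ (GlobalDetect j → GH j F n → DepthGE j F n) := by
  haveI := EtMV.preservesFiniteLimits_secSupp j
  induction n with
  | zero => exact fun F => ⟨fun _ => ⟨fun p hp => absurd hp (by omega), fun p hp => absurd hp (by omega)⟩,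
      fun _ _ => depthGE_zero j F⟩
  | succ n ih =>
    intro F
    suffices H : IsZero ((EtDual.secSupp j).obj F) →
        (DepthGE j F (n + 1) → GH j F (n + 1)) ∧ (GlobalDetect j → GH j F (n + 1) → DepthGE j F (n + 1)) by
      refine ⟨fun h => (H (isZero_secSupp_of_depthGE j (by omega) h)).1 h, fun hd h => ?_⟩
      refine (H (hd F ?_)).2 hd h
      rcases n with _ | n
      · exact h.2 0 rfl
      · exact (h.1 0 (by omega)).1
    intro h0
    haveI : Mono (EtDual.unitApp j F) := Preadditive.mono_of_kernel_zero (h0.eq_of_src _ _)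
    let J := Injective.under ((EtCoh.pull j).obj F)
    let I := (EtCoh.push j).obj J
    haveI : Injective I := EtPullExact.push_injective j J
    have hI0 := isZero_secSupp_push j J
    let f : F ⟶ I := EtDual.unitApp j F ≫ (EtCoh.push j).map (Injective.ι _)
    let S : ShortComplex (EtCoh.Ab X) := ShortComplex.mk f (cokernel.π f) (cokernel.condition f)
    have hS : S.ShortExact :=
      { exact := ShortComplex.exact_of_g_is_cokernel _ (cokernelIsCokernel f) }
    haveI : Injective S.X₂ := ‹Injective I›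
    have hI : ∀ m, DepthGE j S.X₂ m := fun m => depthGE_push j J m fun q hq _ => by
      obtain ⟨q, rfl⟩ : ∃ k, q = k + 1 := ⟨q - 1, by omega⟩
      exact Functor.isZero_rightDerived_obj_injective_succ _ q _
    have hb := EtMV.γH_bijective_injective j S.X₂ (injective_γH_zero j hI0)
    constructor
    · intro h
      obtain ⟨h1, h2⟩ := (ih S.X₃).1 (depthGE_right j hS (hI n) h)
      have hinj : ∀ p, p + 1 ≤ n → Function.Injective (γH j S.X₃ p) := fun p hp =>
        (Nat.lt_or_ge (p + 1) n).elim (fun hlt => (h1 p hlt).1) (fun hge => h2 p (by omega))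
      have hF : ∀ p, p ≤ n → Function.Injective (γH j S.X₁ p) := by
        rintro (_ | p) hp
        · exact injective_γH_zero j h0
        · exact EtMV.ladder₁ j hS hb p (hinj p hp)
      exact ⟨fun p hp => ⟨hF p (by omega), EtMV.ladder₂ j hS hb p (hinj p (by omega))
        (fun q hq => (h1 q (by omega)).2)⟩, fun p hp => hF p (by omega)⟩
    · intro hd h
      have hinj : ∀ p, p ≤ n → Function.Injective (γH j S.X₁ p) := fun p hp =>
        (Nat.lt_or_ge p n).elim (fun hlt => (h.1 p (by omega)).1) (fun hge => h.2 p (by omega))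
      have hQ : ∀ p, p + 1 ≤ n → Function.Injective (γH j S.X₃ p) := fun p hp =>
        EtMV.ladder₃ j hS hb p (hinj (p + 1) hp) (h.1 p (by omega)).2
      exact depthGE_left j hS (hI (n + 1)) ((ih S.X₃).2 hd
        ⟨fun p hp => ⟨hQ p (by omega), EtMV.ladder₄ j hS hb p (h.1 (p + 1) (by omega)).2⟩,
          fun p hp => hQ p (by omega)⟩)

theorem gh_of_depthGE {F : EtCoh.Ab X} {n : ℕ} (h : DepthGE j F n) : GH j F n := (gh_iff_aux j n F).1 h

/-- in terms of the pull-back maps on cohomology -/
theorem γH_iff_Hpull (F : EtCoh.Ab X) (p : ℕ) :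
    (Function.Injective (γH j F p) ↔ Function.Injective (EtCore.Hpull j F p)) ∧
      (Function.Bijective (γH j F p) ↔ Function.Bijective (EtCore.Hpull j F p)) := by
  rw [EtMV.Hpull_eq_γH]
  constructor
  · exact ⟨fun h => (EtMV.toH _ _ p).injective.comp (h.comp (EtMV.toH _ _ p).symm.injective),
      fun h => (Function.Injective.of_comp_iff' _ (EtMV.toH _ _ p).symm.bijective).1 h.of_comp⟩
  · exact ⟨fun h => (EtMV.toH _ _ p).bijective.comp (h.comp (EtMV.toH _ _ p).symm.bijective),
      fun h => (Function.Bijective.of_comp_iff _ (EtMV.toH _ _ p).symm.bijective).1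
        ((Function.Bijective.of_comp_iff' (EtMV.toH _ _ p).bijective _).1 h)⟩

end Global

section Local

variable {R : Type u} [CommRing R] [HenselianLocalRing R] [IsSepClosed (IsLocalRing.ResidueField R)]

theorem range_puncturedSpec (R : Type u) [CommRing R] [IsLocalRing R] (P : Spec (CommRingCat.of R)) :
    P ∈ Set.range (FEt.puncturedSpec R).ι ↔ P ≠ IsLocalRing.closedPoint R := by
  rw [Scheme.Opens.range_ι]
  exact Iff.rfl

/-- a sheaf vanishing off the closed point and without global sections vanishes -/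
theorem isZero_of_sections (G : EtCoh.Ab (Spec (CommRingCat.of R)))
    (hU : ∀ P : Spec (CommRingCat.of R), P ≠ IsLocalRing.closedPoint R → EtPBC.ZeroAt G P)
    (hΓ : ∀ s : EtCoh.sect G (EtCoh.top (Spec (CommRingCat.of R))), s = 0) : IsZero G := by
  refine EtPBC.isZero_of_zeroAt G fun P => ?_
  by_cases hP : P = IsLocalRing.closedPoint R
  · refine (EtPBC.isZero_stalk_iff_zeroAt (ξ := EtHens.pt R) ?_ G).1 ?_
    · subst hP
      rw [Subsingleton.elim (α := Spec (CommRingCat.of (IsLocalRing.ResidueField R))) default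
        (IsLocalRing.closedPoint (IsLocalRing.ResidueField R))]
      exact IsLocalRing.comap_closedPoint (IsLocalRing.residue R)
    · haveI : Subsingleton ((EtCoh.stalk (EtHens.pt R)).obj G) := ⟨fun a b => by
        obtain ⟨a', rfl⟩ := (EtHens.bijective_germ R G).2 a
        obtain ⟨b', rfl⟩ := (EtHens.bijective_germ R G).2 b
        rw [hΓ a', hΓ b']⟩
      exact AddCommGrpCat.isZero_of_subsingleton _
  · exact hU P hP

theorem globalDetect_punctured [PreservesFiniteLimits (EtCoh.pull (FEt.puncturedSpec R).ι)] :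
    GlobalDetect (FEt.puncturedSpec R).ι := by
  intro F hinj
  refine isZero_of_sections _ (fun P hP => ?_) (fun s => ?_)
  · obtain ⟨P', hP'⟩ := (range_puncturedSpec R P).2 hP
    obtain ⟨Ω, _, _, ζ, hζ⟩ := EtPBC.exists_geomPt P'
    refine (EtPBC.isZero_stalk_iff_zeroAt (ξ := ζ ≫ (FEt.puncturedSpec R).ι) (by
      rw [Scheme.Hom.comp_apply, hζ, hP']) _).1 ?_
    exact ((EtCoh.stalk ζ).map_isZero (isZero_pull_secSupp (FEt.puncturedSpec R).ι F)).of_iso
      ((EtStalk.stalkPullIso _ ζ).app _)
  · rw [EtMV.γH_zero_injective_iff] at hinj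
    haveI := EtMV.mono_lcι (FEt.puncturedSpec R).ι F
    refine EtFLC.app_injective ((lcι (FEt.puncturedSpec R).ι).app F) _ ((hinj _ ?_).trans (map_zero _).symm)
    exact ConcreteCategory.congr_hom (congr_app (congrArg (fun k => k.hom)
      (kernel.condition (EtDual.unitApp (FEt.puncturedSpec R).ι F)))
        (op (EtCoh.top (Spec (CommRingCat.of R))))) s

/-- **depth along the closed point of a strictly henselian local ring** -/
theorem depthGE_punctured_iff [PreservesFiniteLimits (EtCoh.pull (FEt.puncturedSpec R).ι)]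
    (F : EtCoh.Ab (Spec (CommRingCat.of R))) (n : ℕ) :
    DepthGE (FEt.puncturedSpec R).ι F n ↔
      (∀ p, p + 1 < n → Function.Bijective (EtCore.Hpull (FEt.puncturedSpec R).ι F p)) ∧
        (∀ p, p + 1 = n → Function.Injective (EtCore.Hpull (FEt.puncturedSpec R).ι F p)) := by
  constructor
  · intro h
    obtain ⟨h1, h2⟩ := gh_of_depthGE _ h
    exact ⟨fun p hp => (γH_iff_Hpull _ F p).2.1 (h1 p hp), fun p hp => (γH_iff_Hpull _ F p).1.1 (h2 p hp)⟩
  · rintro ⟨h1, h2⟩
    exact (gh_iff_aux _ n F).2 globalDetect_punctured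
      ⟨fun p hp => (γH_iff_Hpull _ F p).2.2 (h1 p hp), fun p hp => (γH_iff_Hpull _ F p).1.2 (h2 p hp)⟩

end Local

section Torsion

variable {ℓ : ℕ}

theorem isLTorsion_iff (hℓ : ℓ.Prime) (F : EtCoh.Ab X) :
    EtDepth.IsLTorsion ℓ F ↔ EtAcyc.IsLTorsion {ℓ} F := by
  constructor
  · intro h V s x
    obtain ⟨V', g, hv, k, hk⟩ := h V s x
    exact ⟨V', g, ℓ ^ k, hv, ⟨pow_pos hℓ.pos k, fun p hp hd =>
      (Nat.prime_dvd_prime_iff_eq hp hℓ).1 (hp.dvd_of_dvd_pow hd)⟩, hk⟩
  · intro h V s x
    obtain ⟨V', g, m, hv, ⟨hm0, hm⟩, hs⟩ := h V s x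
    obtain ⟨k, hk⟩ : ∃ k, m = ℓ ^ k :=
      ⟨_, Nat.eq_prime_pow_of_unique_prime_dvd hm0.ne' fun hp hd => hm _ hp hd⟩
    exact ⟨V', g, hv, k, hk ▸ hs⟩

theorem isLTorsion_of_mono {L : Set ℕ} {F G : EtCoh.Ab X} (f : F ⟶ G) [Mono f] (h : EtAcyc.IsLTorsion L G) :
    EtAcyc.IsLTorsion L F := fun V s x => by
  obtain ⟨V', g, m, hv, hm, hs⟩ := h V (f.hom.app (op V) s) x
  refine ⟨V', g, m, hv, hm, EtFLC.app_injective f V' ?_⟩
  rw [map_nsmul, map_zero, NatTrans.naturality_apply]
  exact hs

end Torsion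

end Groth.Agent.EtDepthX
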