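import Groth.Agent.EtDepthX.Kit
import Groth.Agent.EtOpenBC.Fwd
import Groth.Agent.LAcyc.Transfer
import Mathlib

/-!
# Depth of inverse images of direct images from opens
-/

set_option autoImplicit false
set_option backward.isDefEq.respectTransparency false
set_option backward.isDefEq.respectTransparency.types false
set_option linter.unusedSectionVars false
set_option linter.style.haveILetI false
set_option linter.overlappingInstances false
set_option maxHeartbeats 1000000
set_option synthInstance.maxHeartbeats 400000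

universe u

open CategoryTheory CategoryTheory.Limits CategoryTheory.Abelian AlgebraicGeometry Opposite IsLocalRing

noncomputable section

namespace Groth.Agent.EtDepthX

attribute [local instance 100000] EtCoh.H._proof_1 Groth.Agent.EtMV.hext
attribute [local instance 200000] Groth.Agent.EtMV.hextAb

open EtDepth (DepthGE)
open EtBCQ (SH Loc)

/-- pull-back along an isomorphism -/
theorem bijective_HpullVia_of_isIso {W' P Z : Scheme.{u}} (m : W' ⟶ P) [IsIso m] (a : P ⟶ Z) (a' : W' ⟶ Z)
    (w : m ≫ a = a') [PreservesFiniteLimits (EtCoh.pull m)] (F : EtCoh.Ab Z) (q : ℕ) :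
    Function.Bijective (EtCore.HpullVia m a a' w F q) := by
  haveI := EtAcycX.isIso_ψh m a a' w F
  exact (EtAcycX.bijective_comp_iso (EtLimit.ψh m a a' w F) q).comp
    (S0642.result m ((EtCoh.pull a).obj F) q)

variable {X S V W : Scheme.{u}} (φ : X ⟶ S) (j : V ⟶ S) [IsOpenImmersion j] [QuasiCompact j] (h : W ⟶ X)
  [IsOpenImmersion h] (e : W ⟶ V) (c : IsPullback e h j φ) [PreservesFiniteLimits (EtCoh.pull e)]

include c in
theorem compN_loc_weaklyEtale [WeaklyEtale φ] [QuasiCompact h] [QuasiSeparated h]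
    (l : Loc φ j h e) : IsIso l.m := by
  let QS : SH S (φ.base l.x) := { R := l.RS }
  let QX : SH X l.x := { R := l.RX }
  obtain ⟨aQ, lQ, sQ, hQ⟩ := EtAcycX.exists_push_SH φ QX
  let P' : SH S (φ.base l.x) := { R := l.RX, alg := aQ, lh := lQ, sh := sQ }
  have hb : Function.Bijective l.ρ := LAcyc.bijective_SH_hom QS P' l.ρ (l.hρ.symm.trans hQ.symm)
  haveI : IsIso (CommRingCat.ofHom l.ρ) := (ConcreteCategory.isIso_iff_bijective _).2 hb
  have hbig : IsPullback (l.m ≫ l.aS) l.bX j
      (Spec.map (CommRingCat.ofHom l.ρ) ≫ Hens2.specOf S (φ.base l.x) l.RS) := by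
    rw [l.wm, ← l.hρ]
    exact l.HX.flip.paste_vert c.flip |>.flip
  exact (IsPullback.of_right hbig l.wb l.HS).isIso_fst_of_isIso

include c in
/-- base change along weakly étale maps -/
theorem isIso_bcQ_weaklyEtale [WeaklyEtale φ] (F : EtCoh.Ab V) (q : ℕ) :
    IsIso (EtBC.bcQ j φ h e c.w q F) := by
  haveI : QuasiCompact h := MorphismProperty.of_isPullback (P := @QuasiCompact) c ‹_›
  haveI : QuasiSeparated h := inferInstance
  refine EtOpenBC.isIso_bcQ_of_loc c.w c F q fun l => ?_
  haveI := compN_loc_weaklyEtale φ j h e c l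
  exact bijective_HpullVia_of_isIso l.m l.aS (l.pY ≫ e) l.wm F q

include c in
/-- inverse images of direct images have large depth -/
theorem depthGE_pull_push (M : EtCoh.Ab V) (n : ℕ) (h0 : IsIso (EtBC.bcQ j φ h e c.w 0 M))
    (hbc : ∀ q : ℕ, 1 ≤ q → q + 1 < n → IsIso (EtBC.bcQ j φ h e c.w q M))
    (hR : ∀ q : ℕ, 1 ≤ q → q + 1 < n → IsZero ((EtCoh.Rpush j q).obj M)) :
    DepthGE h ((EtCoh.pull φ).obj ((EtCoh.push j).obj M)) n := by
  haveI := h0
  haveI : PreservesFiniteLimits (EtCoh.push j) := inferInstance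
  haveI : PreservesFiniteLimits (EtCoh.push h) := inferInstance
  have hh : DepthGE h ((EtCoh.push h).obj ((EtCoh.pull e).obj M)) n := depthGE_push h _ n fun q hq hqn => by
    haveI := hbc q hq hqn
    exact ((EtCoh.pull φ).map_isZero (hR q hq hqn)).of_iso (asIso (EtBC.bcQ j φ h e c.w q M)).symm
  exact depthGE_of_iso h (((EtCoh.push h).rightDerivedZeroIsoSelf.app _).symm ≪≫
    (asIso (EtBC.bcQ j φ h e c.w 0 M)).symm ≪≫
      (EtCoh.pull φ).mapIso ((EtCoh.push j).rightDerivedZeroIsoSelf.app M)) hh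

include c in
/-- along weakly étale maps -/
theorem depthGE_pull_push_weaklyEtale [WeaklyEtale φ] (M : EtCoh.Ab V) (n : ℕ)
    (hR : ∀ q : ℕ, 1 ≤ q → q + 1 < n → IsZero ((EtCoh.Rpush j q).obj M)) :
    DepthGE h ((EtCoh.pull φ).obj ((EtCoh.push j).obj M)) n :=
  depthGE_pull_push φ j h e c M n (isIso_bcQ_weaklyEtale φ j h e c M 0)
    (fun q _ _ => isIso_bcQ_weaklyEtale φ j h e c M q) hR

include c in
/-- along locally acyclic maps -/
theorem depthGE_pull_push_locAcyclic {L : Set ℕ} {m : ℕ} (hφ : EtAcyc.IsLocAcyclicN φ L m) (M : EtCoh.Ab V)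
    (hM : EtAcyc.IsLTorsion L M) (n : ℕ) (hn : n ≤ m + 2)
    (hR : ∀ q : ℕ, 1 ≤ q → q + 1 < n → IsZero ((EtCoh.Rpush j q).obj M)) :
    DepthGE h ((EtCoh.pull φ).obj ((EtCoh.push j).obj M)) n := by
  have hb := (EtOpenBC.bc_open_of_locAcyclic φ j h e c hφ M hM).1
  exact depthGE_pull_push φ j h e c M n (hb 0 (Nat.zero_le m)) (fun q _ hq => hb q (by omega)) hR

end Groth.Agent.EtDepthX
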