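import Groth.Agent.EtDepthX.Points
import Groth.Agent.EtAcycX.ConstHens
import Groth.Agent.EtAcycX.GenPt
import Groth.Agent.EtAcycX.LCVan
import Groth.Agent.LAcyc.ProperFLC
import Groth.Agent.EtCons.PullFLC
import Groth.Agent.EtCons.Generate
import Groth.Agent.EtEmbFin.Point
import Mathlib

/-!
# Depth of finite locally constant sheaves from constant coefficients
-/

set_option autoImplicit false
set_option backward.isDefEq.respectTransparency false
set_option backward.isDefEq.respectTransparency.types false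
set_option linter.unusedSectionVars false
set_option linter.style.haveILetI false
set_option linter.overlappingInstances false
set_option maxHeartbeats 1000000
set_option synthInstance.maxHeartbeats 400000

universe u

open CategoryTheory CategoryTheory.Limits CategoryTheory.Abelian AlgebraicGeometry Opposite IsLocalRing

noncomputable section

namespace Groth.Agent.EtDepthX

attribute [local instance 100000] EtCoh.H._proof_1 Groth.Agent.EtMV.hext
attribute [local instance 200000] Groth.Agent.EtMV.hextAb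

open EtDepth (DepthGE)
open EtAcycX (constB)

variable {X U : Scheme.{u}} (j : U ⟶ X)

/-- devissage of finite `ℓ`-primary constant coefficients -/
theorem depthGE_constB {ℓ : ℕ} (hℓ : ℓ.Prime) {n : ℕ} (h : DepthGE j (EtCoh.const X (ZMod ℓ)) n) :
    ∀ (c : ℕ) (M : AddCommGrpCat.{u + 1}), Finite M → Nat.card M ≤ c → (∀ x : M, ∃ k : ℕ, (ℓ ^ k) • x = 0) →
      DepthGE j (constB X M) n := by
  haveI : (constantSheaf X.smallEtaleTopology AddCommGrpCat.{u + 1}).Additive :=
    Functor.additive_of_preserves_binary_products _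
  intro c
  induction c with
  | zero => exact fun M hM hc _ => absurd hc (Nat.not_le.2 Nat.card_pos)
  | succ c ih =>
    intro M hM hc htors
    by_cases hsub : Subsingleton M
    · have hz : IsZero (constB X M) :=
        (constantSheaf X.smallEtaleTopology AddCommGrpCat.{u + 1}).map_isZero (AddCommGrpCat.isZero_of_subsingleton M)
      intro p _
      haveI : (EtDual.locCoh j p).Additive :=
        inferInstanceAs (((EtDual.secSupp j).rightDerived p).Additive)
      exact (EtDual.locCoh j p).map_isZero hz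
    haveI : Nontrivial M := not_subsingleton_iff_nontrivial.1 hsub
    obtain ⟨x, hx⟩ := exists_ne (0 : M)
    obtain ⟨k, hk⟩ := htors x
    obtain ⟨i, hi, hix⟩ : ∃ i, (ℓ ^ i) • x ≠ 0 ∧ (ℓ ^ (i + 1)) • x = 0 := by
      classical
      have hex : ∃ k, (ℓ ^ k) • x = 0 := ⟨k, hk⟩
      have h1 := Nat.find_spec hex
      have hpos : Nat.find hex ≠ 0 := fun h0 => hx (by rwa [h0, pow_zero, one_smul] at h1)
      refine ⟨Nat.find hex - 1, Nat.find_min hex (by omega), ?_⟩
      rwa [Nat.sub_add_cancel (Nat.one_le_iff_ne_zero.2 hpos)]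
    let t : M := (ℓ ^ i) • x
    have ht : addOrderOf t = ℓ := by
      haveI := Fact.mk hℓ
      refine addOrderOf_eq_prime ?_ hi
      show ℓ • (ℓ ^ i) • x = 0
      rw [← mul_smul, ← pow_succ']
      exact hix
    let H := AddSubgroup.zmultiples t
    let e : ULift.{u + 1} (ZMod ℓ) ≃+ H :=
      AddEquiv.ulift.trans ((ZMod.ringEquivCongr (show ℓ = Nat.card H by rw [Nat.card_zmultiples, ht])).toAddEquiv.trans
        (zmodAddCyclicAddEquiv (G := H) inferInstance))
    let S : ShortComplex AddCommGrpCat.{u + 1} := ShortComplex.mk (AddCommGrpCat.ofHom H.subtype)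
      (AddCommGrpCat.ofHom (QuotientAddGroup.mk' H)) (by ext a; exact (QuotientAddGroup.eq_zero_iff _).2 a.2)
    have hS : S.ShortExact :=
      { exact := (ShortComplex.ab_exact_iff S).2 fun a ha => ⟨⟨a, (QuotientAddGroup.eq_zero_iff _).1 ha⟩, rfl⟩
        mono_f := (AddCommGrpCat.mono_iff_injective _).2 H.subtype_injective
        epi_g := (AddCommGrpCat.epi_iff_surjective _).2 (QuotientAddGroup.mk'_surjective H) }
    have hS' := hS.map_of_exact (constantSheaf X.smallEtaleTopology AddCommGrpCat.{u + 1})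
    refine depthGE_mid j hS' (depthGE_of_iso j ((constantSheaf X.smallEtaleTopology AddCommGrpCat.{u + 1}).mapIso
      (AddEquiv.toAddCommGrpIso e)) h) (ih _ inferInstance ?_ fun q => ?_)
    · have h1 := AddSubgroup.card_eq_card_quotient_mul_card_addSubgroup H
      rw [Nat.card_zmultiples, ht] at h1
      show Nat.card (M ⧸ H) ≤ c
      have h2 := Nat.mul_le_mul_left (Nat.card (M ⧸ H)) hℓ.two_le
      have := Nat.card_pos (α := M ⧸ H)
      omega
    · obtain ⟨m, rfl⟩ := QuotientAddGroup.mk'_surjective H q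
      obtain ⟨k, hk⟩ := htors m
      exact ⟨k, by show (ℓ ^ k) • QuotientAddGroup.mk' H m = 0; rw [← map_nsmul, hk, map_zero]⟩

/-- finite locally constant torsion sheaves on strictly henselian spectra -/
theorem exists_iso_constB_finite {ℓ : ℕ} (hℓ : ℓ.Prime) (R : Type u) [CommRing R] [HenselianLocalRing R]
    [IsSepClosed (ResidueField R)] {Y : Scheme.{u}} (a : Spec (CommRingCat.of R) ⟶ Y) (F : EtCoh.Ab Y)
    (hF : EtCoh.IsFiniteLocallyConstant F) (hFt : EtDepth.IsLTorsion ℓ F) :
    ∃ M : AddCommGrpCat.{u + 1}, Finite M ∧ (∀ x : M, ∃ k : ℕ, (ℓ ^ k) • x = 0) ∧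
      Nonempty ((EtCoh.pull a).obj F ≅ constB (Spec (CommRingCat.of R)) M) := by
  haveI := EtCohDesc.pull_preservesFiniteLimits a
  obtain ⟨M, ⟨i⟩⟩ := EtAcycX.exists_iso_constB_pull R a F (LAcyc.isLocallyConstant_of_isFLC hF)
  let T := Spec (CommRingCat.of R)
  refine ⟨M, ?_, fun x => ?_, ⟨i⟩⟩
  · let G := (EtCoh.pull a).obj F
    haveI : Finite ((EtCoh.stalk (EtHens.pt R ≫ a)).obj F) :=
      EtCons.finite_stalk_of_isConstructible F (EtCons.isConstructible_of_isFLC hF) _
    haveI : Finite ((EtCoh.stalk (EtHens.pt R)).obj G) :=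
      Finite.of_equiv _ ((EtStalk.stalkPullIso a (EtHens.pt R)).app F).addCommGroupIsoToAddEquiv.toEquiv
    haveI : Finite (EtCoh.sect G (EtCoh.top T)) :=
      @Finite.of_injective _ _ ‹Finite ((EtCoh.stalk (EtHens.pt R)).obj G)› _ (EtHens.bijective_germ R G).1
    haveI : Finite (EtCoh.sect (constB T M) (EtCoh.top T)) :=
      @Finite.of_equiv _ _ ‹Finite (EtCoh.sect G (EtCoh.top T))›
        (((sheafToPresheaf _ _ ⋙ (evaluation _ _).obj (op (EtCoh.top T))).mapIso i)).addCommGroupIsoToAddEquiv.toEquiv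
    exact @Finite.of_injective _ _ ‹Finite (EtCoh.sect (constB T M) (EtCoh.top T))› _
      (EtAcycX.constTop_henselian R M).1
  · obtain ⟨m, ⟨hm0, hm⟩, hmx⟩ := EtAcycX.primes_of_isLTorsion_constB R (L := {ℓ})
      (EtAcycX.isLTorsion_of_epi _ i.hom (EtAcycX.isLTorsion_pull a ((isLTorsion_iff hℓ F).1 hFt))) x
    obtain ⟨k, hk⟩ : ∃ k, m = ℓ ^ k :=
      ⟨_, Nat.eq_prime_pow_of_unique_prime_dvd hm0.ne' fun hp hd => hm _ hp hd⟩
    exact ⟨k, hk ▸ hmx⟩

/-- **depth of finite locally constant sheaves** -/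
theorem depthGE_of_flc [IsOpenImmersion j] [QuasiCompact j] {ℓ : ℕ} (hℓ : ℓ.Prime) {n : ℕ}
    (hX : DepthGE j (EtCoh.const X (ZMod ℓ)) n) (F : EtCoh.Ab X) (hF : EtCoh.IsFiniteLocallyConstant F)
    (hFt : EtDepth.IsLTorsion ℓ F) : DepthGE j F n := by
  refine (depthGE_iff_depthAtGE j n F).2 fun y hy R _ _ _ _ hR => ?_
  haveI := hR.henselian
  haveI : IsSepClosed (ResidueField R) := hR.isSepClosure.1
  have h := (depthGE_iff_depthAtGE j n _).1 hX y hy R
  obtain ⟨M, hM, htors, ⟨i⟩⟩ := exists_iso_constB_finite hℓ R (Hens2.specOf X y R) F hF hFt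
  exact depthGE_of_iso _ i.symm (depthGE_constB _ hℓ
    (depthGE_of_iso _ (EtCons.pullConstM (Hens2.specOf X y R) (ZMod ℓ)) h) (Nat.card M) M hM le_rfl htors)

end Groth.Agent.EtDepthX
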