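import Groth.Agent.EtDepthX.Fibre
import Groth.Agent.EtColimH.PTorsion
import Groth.Agent.EtAcycX.CompBC
import Mathlib

/-!
# Depth of inverse images along locally acyclic maps of strictly local schemes
-/

set_option autoImplicit false
set_option backward.isDefEq.respectTransparency false
set_option backward.isDefEq.respectTransparency.types false
set_option linter.unusedSectionVars false
set_option linter.style.haveILetI false
set_option linter.overlappingInstances false
set_option maxHeartbeats 1000000
set_option synthInstance.maxHeartbeats 400000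

universe u

open CategoryTheory CategoryTheory.Limits CategoryTheory.Abelian AlgebraicGeometry Opposite IsLocalRing

noncomputable section

namespace Groth.Agent.EtDepthX

attribute [local instance 100000] EtCoh.H._proof_1 Groth.Agent.EtMV.hext
attribute [local instance 200000] Groth.Agent.EtMV.hextAb

open EtDepth (DepthGE)

variable {RS RX : Type u} [CommRing RS] [CommRing RX] [HenselianLocalRing RS] [HenselianLocalRing RX]

/-- the punctured spectrum is quasi-compact below a noetherian local ring -/
theorem quasiCompact_punctured [IsNoetherianRing RX] (φ : RS →+* RX) [IsLocalHom φ]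
    (hsurj : Function.Surjective (Spec.map (CommRingCat.ofHom φ))) :
    QuasiCompact (FEt.puncturedSpec RS).ι := by
  obtain ⟨T, hT, hspan⟩ := Submodule.fg_span_iff_fg_span_finset_subset (R := RX)
    (φ '' (maximalIdeal RS : Set RS)) |>.1 (IsNoetherian.noetherian _)
  classical
  choose pre hpre hpre' using fun t : T => hT t.2
  let A : Set RS := Set.range pre
  have key : ∀ P : Spec (CommRingCat.of RS), A ⊆ (P.asIdeal : Set RS) → P = closedPoint RS := by
    intro P hP
    obtain ⟨Q, rfl⟩ := hsurj P
    refine PrimeSpectrum.ext ((le_maximalIdeal (Spec.map (CommRingCat.ofHom φ) Q).isPrime.ne_top).antisymm ?_)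
    intro a ha
    show φ a ∈ Q.asIdeal
    have h1 : Submodule.span RX (φ '' (maximalIdeal RS : Set RS)) ≤ Q.asIdeal := by
      rw [hspan, Submodule.span_le]
      intro t ht
      have h2 : φ (pre ⟨t, ht⟩) ∈ Q.asIdeal := hP ⟨⟨t, ht⟩, rfl⟩
      have h4 : φ (pre ⟨t, ht⟩) = t := hpre' ⟨t, ht⟩
      exact Eq.subst (motive := fun z => z ∈ Q.asIdeal) h4 h2
    exact h1 (Submodule.subset_span ⟨a, ha, rfl⟩)
  have hset : ((FEt.puncturedSpec RS : (Spec (CommRingCat.of RS)).Opens) : Set (Spec (CommRingCat.of RS))) =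
      ⋃ t : T, (PrimeSpectrum.basicOpen (pre t) : Set (PrimeSpectrum RS)) := by
    ext P
    rw [Set.mem_iUnion]
    constructor
    · intro hP
      by_contra hne
      push Not at hne
      refine (range_puncturedSpec RS P).1 (by rwa [Scheme.Opens.range_ι]) (key P ?_)
      rintro _ ⟨t, rfl⟩
      exact not_not.1 (hne t)
    · rintro ⟨t, ht⟩
      rw [← Scheme.Opens.range_ι]
      refine (range_puncturedSpec RS P).2 fun h => ht ?_
      subst h
      exact hpre t
  have hc : IsCompact ((FEt.puncturedSpec RS : (Spec (CommRingCat.of RS)).Opens) : Set (Spec (CommRingCat.of RS))) := by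
    rw [hset]
    exact isCompact_iUnion fun t => PrimeSpectrum.isCompact_basicOpen (pre t)
  haveI : CompactSpace (FEt.puncturedSpec RS).toScheme := isCompact_iff_compactSpace.1 hc
  infer_instance

variable [IsSepClosed (ResidueField RS)] [IsSepClosed (ResidueField RX)]

/-- **depth of inverse images, strictly local case** -/
theorem depthGE_pull_local [IsNoetherianRing RX] {RZ : Type u} [CommRing RZ] [HenselianLocalRing RZ]
    [IsSepClosed (ResidueField RZ)] [IsNoetherianRing RZ]
    (φ : RS →+* RX) [IsLocalHom φ] (g : RX →+* RZ) (hg : Function.Surjective g) (τ : ResidueField RS →+* RZ)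
    (hτ : g.comp φ = τ.comp (residue RS))
    (hfib : ∀ P : Spec (CommRingCat.of RX), Spec.map (CommRingCat.ofHom φ) P = closedPoint RS →
      P ∈ Set.range (Spec.map (CommRingCat.ofHom g)))
    (hsurj : Function.Surjective (Spec.map (CommRingCat.ofHom φ)))
    {ℓ : ℕ} (hℓ : ℓ.Prime) {m : ℕ} (hφ : EtAcyc.IsLocAcyclicN (Spec.map (CommRingCat.ofHom φ)) {ℓ} m) {q : ℕ}
    (hZ : DepthGE (FEt.puncturedSpec RZ).ι (EtCoh.const (Spec (CommRingCat.of RZ)) (ZMod ℓ)) q) :
    ∀ (n p : ℕ) (G : EtCoh.Ab (Spec (CommRingCat.of RS))), EtAcyc.IsLTorsion {ℓ} G →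
      DepthGE (FEt.puncturedSpec RS).ι G p → n ≤ p + q → n ≤ m + 2 →
      DepthGE (FEt.puncturedSpec RX).ι ((EtCoh.pull (Spec.map (CommRingCat.ofHom φ))).obj G) n := by
  let f := Spec.map (CommRingCat.ofHom φ)
  let j := (FEt.puncturedSpec RS).ι
  let ιX := (FEt.puncturedSpec RX).ι
  haveI : QuasiCompact j := quasiCompact_punctured φ hsurj
  haveI : CompactSpace (FEt.puncturedSpec RS).toScheme := QuasiCompact.compactSpace_of_compactSpace j
  haveI := EtCohDesc.pull_preservesFiniteLimits f
  haveI := EtCohDesc.pull_preservesFiniteLimits j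
  haveI := EtCohDesc.pull_preservesFiniteLimits (f ∣_ FEt.puncturedSpec RS)
  intro n
  induction n with
  | zero => exact fun p G _ _ _ _ => depthGE_zero ιX _
  | succ n ih =>
    have main : ∀ (p : ℕ) (G : EtCoh.Ab (Spec (CommRingCat.of RS))), EtAcyc.IsLTorsion {ℓ} G → 1 ≤ p →
        DepthGE j G p → n + 1 ≤ p + q → n + 1 ≤ m + 2 → DepthGE ιX ((EtCoh.pull f).obj G) (n + 1) := by
      intro p G hG hp hd hpq hm
      obtain ⟨p, rfl⟩ : ∃ k, p = k + 1 := ⟨p - 1, by omega⟩
      haveI : Mono (EtDual.unitApp j G) :=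
        Preadditive.mono_of_kernel_zero ((isZero_secSupp_of_depthGE j (by omega) hd).eq_of_src _ _)
      obtain ⟨T, e, he, hcac, hT⟩ := EtAcycX.exists_hullL {ℓ} (EtAcycX.isLTorsion_pull j hG)
      let I := (EtCoh.push j).obj T
      let ι₀ : G ⟶ I := EtDual.unitApp j G ≫ (EtCoh.push j).map e
      haveI : Mono ((EtCoh.push j).map e) := inferInstance
      haveI : Mono ι₀ := mono_comp _ _
      let S : ShortComplex (EtCoh.Ab (Spec (CommRingCat.of RS))) :=
        ShortComplex.mk ι₀ (cokernel.π ι₀) (cokernel.condition ι₀)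
      have hS : S.ShortExact := { exact := ShortComplex.exact_of_g_is_cokernel _ (cokernelIsCokernel _) }
      have hR : ∀ q : ℕ, 1 ≤ q → IsZero ((EtCoh.Rpush j q).obj T) := fun q hq => by
        obtain ⟨q, rfl⟩ : ∃ k, q = k + 1 := ⟨q - 1, by omega⟩
        exact EtColimH.isZero_rpush_of_cac j q T hcac
      have hIt : EtAcyc.IsLTorsion {ℓ} I := EtColimH.locKilled_push (EtAcycX.exponents {ℓ}) j hT
      have h3 : DepthGE j S.X₃ p :=
        depthGE_right j hS (depthGE_push j T p fun q hq _ => hR q hq) hd
      have h3t : EtAcyc.IsLTorsion {ℓ} S.X₃ := EtAcycX.isLTorsion_of_epi _ (cokernel.π ι₀) hIt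
      have c := (isPullback_morphismRestrict f (FEt.puncturedSpec RS))
      have h2 : DepthGE ιX ((EtCoh.pull f).obj I) (n + 1) := by
        refine EtMV.depthGE_of_le (f ⁻¹ᵁ FEt.puncturedSpec RS).ι ιX ?_ (n + 1) _
          (depthGE_pull_push_locAcyclic f j _ _ c hφ T hT (n + 1) hm fun q hq _ => hR q hq)
        intro P hP
        rw [Scheme.Opens.range_ι] at hP
        refine (range_puncturedSpec RX P).2 fun h => ?_
        subst h
        refine (range_puncturedSpec RS _).1 (by rwa [Scheme.Opens.range_ι]) ?_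
        exact IsLocalRing.comap_closedPoint φ
      exact depthGE_left ιX (hS.map_of_exact (EtCoh.pull f)) h2 (ih p S.X₃ h3t h3 (by omega) (by omega))
    intro p G hG hd hpq hm
    rcases Nat.eq_zero_or_pos p with rfl | hp
    · haveI := EtMV.mono_lcι j G
      let u := EtDual.unitApp j G
      let S : ShortComplex (EtCoh.Ab (Spec (CommRingCat.of RS))) :=
        ShortComplex.mk (kernel.ι u) (cokernel.π (kernel.ι u)) (cokernel.condition _)
      have hS : S.ShortExact := { exact := ShortComplex.exact_of_g_is_cokernel _ (cokernelIsCokernel _) }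
      have h0 : DepthGE ιX ((EtCoh.pull f).obj S.X₁) q := by
        refine depthGE_pull_closedFibre φ g hg τ hτ hfib hℓ ((EtDual.secSupp j).obj G)
          (isLTorsion_of_mono ((EtMV.lcι j).app G) hG) (fun P hP => ?_) hZ
        obtain ⟨P', hP'⟩ := (range_puncturedSpec RS P).2 hP
        obtain ⟨Ω, _, _, ζ, hζ⟩ := EtPBC.exists_geomPt P'
        refine (EtPBC.isZero_stalk_iff_zeroAt (ξ := ζ ≫ j) (by rw [Scheme.Hom.comp_apply, hζ, hP']) _).1 ?_
        exact ((EtCoh.stalk ζ).map_isZero (isZero_pull_secSupp j G)).of_iso ((EtStalk.stalkPullIso _ ζ).app _)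
      let v : S.X₃ ⟶ (EtCoh.push j).obj ((EtCoh.pull j).obj G) := Abelian.factorThruCoimage u
      haveI : Mono v := inferInstanceAs (Mono (Abelian.factorThruCoimage u))
      have h3 : DepthGE j S.X₃ 1 :=
        (depthGE_one_iff j _).2 (isZero_secSupp_of_mono j v (isZero_secSupp_push j _))
      exact depthGE_mid ιX (hS.map_of_exact (EtCoh.pull f)) (depthGE_mono_n ιX (by omega) h0)
        (main 1 S.X₃ (EtAcycX.isLTorsion_of_epi _ (cokernel.π (kernel.ι u)) hG) le_rfl h3 (by omega) hm)
    · exact main p G hG hp hd hpq hm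

end Groth.Agent.EtDepthX
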