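import Groth.Agent.EtDepthX.Transfer
import Mathlib

/-!
# Exactness of the additivity of depth along locally acyclic maps
-/

set_option autoImplicit false
set_option backward.isDefEq.respectTransparency false
set_option backward.isDefEq.respectTransparency.types false
set_option linter.unusedSectionVars false
set_option linter.style.haveILetI false
set_option linter.overlappingInstances false
set_option maxHeartbeats 1000000
set_option synthInstance.maxHeartbeats 400000

universe u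

open CategoryTheory CategoryTheory.Limits CategoryTheory.Abelian AlgebraicGeometry Opposite IsLocalRing

noncomputable section

namespace Groth.Agent.EtDepthX

attribute [local instance 100000] EtCoh.H._proof_1 Groth.Agent.EtMV.hext
attribute [local instance 200000] Groth.Agent.EtMV.hextAb

open EtDepth (DepthGE)

section Transfer

variable {RX RZ : Type u} [CommRing RX] [CommRing RZ] [HenselianLocalRing RX] [HenselianLocalRing RZ]
  [IsSepClosed (ResidueField RX)] [IsSepClosed (ResidueField RZ)]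

/-- depth of sheaves supported on a closed subscheme, converse -/
theorem depthGE_pull_of_support (g : RX →+* RZ) (hg : Function.Surjective g)
    (K : EtCoh.Ab (Spec (CommRingCat.of RX)))
    (h0 : ∀ x, x ∉ Set.range (Spec.map (CommRingCat.ofHom g)) → EtPBC.ZeroAt K x) (n : ℕ)
    (h : DepthGE (FEt.puncturedSpec RX).ι K n) :
    DepthGE (FEt.puncturedSpec RZ).ι ((EtCoh.pull (Spec.map (CommRingCat.ofHom g))).obj K) n := by
  let i := Spec.map (CommRingCat.ofHom g)
  let ιX := (FEt.puncturedSpec RX).ι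
  let ιZ := (FEt.puncturedSpec RZ).ι
  haveI : IsClosedImmersion i := IsClosedImmersion.spec_of_surjective _ hg
  haveI : IsLocalHom g := IsLocalHom.of_surjective _ hg
  have hr : Set.range (ιZ ≫ i).base ⊆ Set.range ιX.base := by
    rintro _ ⟨P, rfl⟩
    refine (range_puncturedSpec RX _).2 fun hP => ?_
    rw [Scheme.Hom.comp_apply] at hP
    exact (range_puncturedSpec RZ _).1 ⟨P, rfl⟩ (eq_closedPoint_of_surjective g hg _ hP)
  let jZ := IsOpenImmersion.lift ιX (ιZ ≫ i) hr
  have wj : jZ ≫ ιX = ιZ ≫ i := IsOpenImmersion.lift_fac _ _ _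
  have hpb : IsPullback jZ ιZ ιX i := IsOpenImmersion.isPullback jZ ιZ ιX i wj.symm (by
    refine TopologicalSpace.Opens.ext (Set.ext fun P => ?_)
    show i P ∈ Set.range ιX ↔ P ∈ Set.range ιZ
    rw [range_puncturedSpec, range_puncturedSpec]
    exact not_congr ⟨eq_closedPoint_of_surjective g hg P, fun hP => hP ▸ IsLocalRing.comap_closedPoint g⟩)
  haveI : IsClosedImmersion jZ := MorphismProperty.of_isPullback (P := @IsClosedImmersion) hpb.flip ‹_›
  haveI := EtCohDesc.pull_preservesFiniteLimits jZ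
  haveI := EtCohDesc.pull_preservesFiniteLimits i
  haveI := EtCohDesc.pull_preservesFiniteLimits ιX
  haveI := EtCohDesc.pull_preservesFiniteLimits ιZ
  haveI := EtCohDesc.pull_preservesFiniteLimits (ιZ ≫ i)
  have hsupp : ∀ u, u ∉ Set.range jZ → EtPBC.ZeroAt ((EtCoh.pull ιX).obj K) u := fun u hu =>
    zeroAt_pull ιX K u (h0 _ fun ⟨P, hP⟩ => hu (by
      obtain ⟨v, hv, -⟩ := Scheme.Pullback.exists_preimage_pullback (f := ιX) (g := i) u P hP.symm
      refine ⟨hpb.isoPullback.inv v, ?_⟩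
      rw [← Scheme.Hom.comp_apply, hpb.isoPullback_inv_fst]
      exact hv))
  obtain ⟨hb, hi⟩ := (depthGE_punctured_iff K n).1 h
  have key : ∀ p, (Function.Injective (EtCore.Hpull ιX K p) →
        Function.Injective (EtCore.Hpull ιZ ((EtCoh.pull i).obj K) p)) ∧
      (Function.Bijective (EtCore.Hpull ιX K p) →
        Function.Bijective (EtCore.Hpull ιZ ((EtCoh.pull i).obj K) p)) := fun p => by
    have hj := bijective_Hpull_of_support jZ _ hsupp p
    have hi' := bijective_Hpull_of_support i K h0 p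
    obtain ⟨φ, hφ, e⟩ := exists_Hpull_comp jZ ιX (ιZ ≫ i) wj K p
    obtain ⟨φ', hφ', e'⟩ := exists_Hpull_comp ιZ i (ιZ ≫ i) rfl K p
    have ee := e'.symm.trans e
    refine ⟨fun h1 => ?_, fun h1 => ?_⟩
    · have h2 : Function.Injective (φ' ∘ ⇑(EtCore.Hpull ιZ ((EtCoh.pull i).obj K) p) ∘ ⇑(EtCore.Hpull i K p)) := by
        rw [ee]; exact hφ.1.comp (hj.1.comp h1)
      exact h2.of_comp.of_comp_right hi'.2
    · have h2 : Function.Bijective (φ' ∘ ⇑(EtCore.Hpull ιZ ((EtCoh.pull i).obj K) p) ∘ ⇑(EtCore.Hpull i K p)) := by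
        rw [ee]; exact hφ.comp (hj.comp h1)
      exact (Function.Bijective.of_comp_iff _ hi').1 ((Function.Bijective.of_comp_iff' hφ' _).1 h2)
  exact (depthGE_punctured_iff _ n).2 ⟨fun p hp => (key p).2 (hb p hp), fun p hp => (key p).1 (hi p hp)⟩

variable {k : Type u} [CommRing k] [HenselianLocalRing k] [IsSepClosed (ResidueField k)] (hk : IsField k)
  {ℓ : ℕ} (hℓ : ℓ.Prime)

include hk hℓ in
/-- a nonzero torsion sheaf on a separably closed point contains the constant sheaf -/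
theorem exists_const_mono_of_torsion (G : EtCoh.Ab (Spec (CommRingCat.of k))) (hG : EtAcyc.IsLTorsion {ℓ} G)
    (hne : ¬ IsZero G) : ∃ φ : EtCoh.const (Spec (CommRingCat.of k)) (ZMod ℓ) ⟶ G, Mono φ := by
  obtain ⟨hc⟩ := EtAcycX.nonempty_isColimit_kdCocone {ℓ} G hG
  obtain ⟨a, ha⟩ : ∃ a, ¬ IsZero ((EtAcycX.kdDiag {ℓ} G).obj a) := by
    by_contra hall
    push Not at hall
    refine hne (IsZero.of_iso ?_ (Iso.refl (EtAcycX.kdCocone {ℓ} G).pt))
    rw [IsZero.iff_id_eq_zero]
    exact hc.hom_ext fun a => (hall a).eq_of_src _ _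
  have hm := a.down.down.2
  obtain ⟨J, _, _, D, c, hpt, hc', hD⟩ :=
    EtAcycX.exists_colimit_constructible hm.1 _ (EtAcycX.kd_tor G a.down.down.1)
  obtain ⟨j₀, hj⟩ : ∃ j, c.ι.app j ≠ 0 := by
    by_contra hall
    push Not at hall
    refine ha (IsZero.of_iso ?_ (eqToIso hpt.symm))
    rw [IsZero.iff_id_eq_zero]
    exact hc'.hom_ext fun j => by rw [Category.comp_id, comp_zero, hall j]
  let E := image (c.ι.app j₀)
  have hEne : ¬ IsZero E := fun h => hj (by rw [← Limits.image.fac (c.ι.app j₀), h.eq_of_src (Limits.image.ι _) 0, comp_zero])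
  have hEk : EtAcycX.Kd a.down.down.1 E := (hD j₀).2.of_epi (factorThruImage (c.ι.app j₀))
  let st := EtCoh.stalk (EtHens.pt k)
  haveI : Finite (st.obj (D.obj j₀)) := EtCons.finite_stalk_of_isConstructible _ (hD j₀).1 _
  haveI : Epi (st.map (factorThruImage (c.ι.app j₀))) := inferInstance
  haveI : Finite (st.obj E) := Finite.of_surjective _
    ((AddCommGrpCat.epi_iff_surjective (st.map (factorThruImage (c.ι.app j₀)))).1 inferInstance)
  haveI : Nontrivial (st.obj E) := not_subsingleton_iff_nontrivial.1 fun _ => hEne (EtAcycX.isZero_of_stalk_pt k hk)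
  obtain ⟨ℓ', φ, hℓ', hdvd, hφ⟩ := EtAcycX.exists_const_mono k hk hEk
  obtain rfl : ℓ' = ℓ := hm.2 ℓ' hℓ' hdvd
  haveI : Mono (kernel.ι (a.down.down.1 • 𝟙 G)) := inferInstance
  exact ⟨φ ≫ Limits.image.ι (c.ι.app j₀) ≫ eqToHom hpt ≫ (EtAcycX.kdCocone {ℓ'} G).ι.app a, by
    haveI : Mono ((EtAcycX.kdCocone {ℓ'} G).ι.app a) := inferInstanceAs (Mono (kernel.ι (a.down.down.1 • 𝟙 G)))
    infer_instance⟩

include hk hℓ in
theorem not_depthGE_pull_point [IsNoetherianRing RZ] (π : Spec (CommRingCat.of RZ) ⟶ Spec (CommRingCat.of k)) {q : ℕ}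
    (hZ : DepthGE (FEt.puncturedSpec RZ).ι (EtCoh.const (Spec (CommRingCat.of RZ)) (ZMod ℓ)) q)
    (hZ' : ¬ DepthGE (FEt.puncturedSpec RZ).ι (EtCoh.const (Spec (CommRingCat.of RZ)) (ZMod ℓ)) (q + 1))
    (G : EtCoh.Ab (Spec (CommRingCat.of k))) (hG : EtAcyc.IsLTorsion {ℓ} G) (hne : ¬ IsZero G) :
    ¬ DepthGE (FEt.puncturedSpec RZ).ι ((EtCoh.pull π).obj G) (q + 1) := by
  haveI := EtCohDesc.pull_preservesFiniteLimits π
  obtain ⟨φ, hφ⟩ := exists_const_mono_of_torsion hk hℓ G hG hne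
  haveI := hφ
  let S : ShortComplex (EtCoh.Ab (Spec (CommRingCat.of k))) :=
    ShortComplex.mk φ (cokernel.π φ) (cokernel.condition φ)
  have hS : S.ShortExact := { exact := ShortComplex.exact_of_g_is_cokernel _ (cokernelIsCokernel _) }
  intro h
  exact hZ' (depthGE_of_iso _ (EtCons.pullConstM π (ZMod ℓ)) (depthGE_left _ (hS.map_of_exact (EtCoh.pull π)) h
    (depthGE_pull_point hk π hℓ hZ _ (EtAcycX.isLTorsion_of_epi _ (cokernel.π φ) hG))))

end Transfer

/-- **exactness on the closed fibre** -/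
theorem not_depthGE_pull_closedFibre {RS RX RZ : Type u} [CommRing RS] [CommRing RX] [CommRing RZ]
    [HenselianLocalRing RS] [HenselianLocalRing RX] [HenselianLocalRing RZ] [IsSepClosed (ResidueField RS)]
    [IsSepClosed (ResidueField RX)] [IsSepClosed (ResidueField RZ)] [IsNoetherianRing RZ]
    (φ : RS →+* RX) (g : RX →+* RZ) (hg : Function.Surjective g) (τ : ResidueField RS →+* RZ)
    (hτ : g.comp φ = τ.comp (residue RS))
    (hfib : ∀ P : Spec (CommRingCat.of RX), Spec.map (CommRingCat.ofHom φ) P = closedPoint RS →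
      P ∈ Set.range (Spec.map (CommRingCat.ofHom g)))
    {ℓ : ℕ} (hℓ : ℓ.Prime) (F₀ : EtCoh.Ab (Spec (CommRingCat.of RS))) (hF : EtAcyc.IsLTorsion {ℓ} F₀)
    (hF0 : ∀ P, P ≠ closedPoint RS → EtPBC.ZeroAt F₀ P) (hne : ¬ IsZero F₀) {q : ℕ}
    (hZ : DepthGE (FEt.puncturedSpec RZ).ι (EtCoh.const (Spec (CommRingCat.of RZ)) (ZMod ℓ)) q)
    (hZ' : ¬ DepthGE (FEt.puncturedSpec RZ).ι (EtCoh.const (Spec (CommRingCat.of RZ)) (ZMod ℓ)) (q + 1)) :
    ¬ DepthGE (FEt.puncturedSpec RX).ι ((EtCoh.pull (Spec.map (CommRingCat.ofHom φ))).obj F₀) (q + 1) := by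
  haveI : IsSepClosed (ResidueField (ResidueField RS)) :=
    Hensel.isSepClosed_of_ringEquiv
      (RingEquiv.ofBijective (residue (ResidueField RS)) ⟨RingHom.injective _, residue_surjective⟩)
  let e := EtHens.pt RS
  let π := Spec.map (CommRingCat.ofHom τ)
  have hw : Spec.map (CommRingCat.ofHom g) ≫ Spec.map (CommRingCat.ofHom φ) = π ≫ e := by
    rw [← Spec.map_comp, ← Spec.map_comp, ← CommRingCat.ofHom_comp, hτ, CommRingCat.ofHom_comp]
  intro h
  refine not_depthGE_pull_point (Field.toIsField _) hℓ π hZ hZ' _ (EtAcycX.isLTorsion_pull e hF) (fun hz => hne ?_)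
    (depthGE_of_iso _ ?_
      (depthGE_pull_of_support g hg _ (fun x hx => zeroAt_pull _ F₀ x (hF0 _ fun h => hx (hfib x h))) _ h))
  · refine EtPBC.isZero_of_zeroAt F₀ fun P => ?_
    by_cases hP : P = closedPoint RS
    · subst hP
      obtain ⟨Ω, _, _, ζ, -⟩ := EtPBC.exists_geomPt
        (X := Spec (CommRingCat.of (ResidueField RS))) (closedPoint (ResidueField RS))
      refine (EtPBC.isZero_stalk_iff_zeroAt (ξ := ζ ≫ e) ?_ F₀).1
        (((EtCoh.stalk ζ).map_isZero hz).of_iso ((EtStalk.stalkPullIso e ζ).app F₀))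
      rw [Scheme.Hom.comp_apply, Subsingleton.elim (α := Spec (CommRingCat.of (ResidueField RS))) (ζ default)
        (closedPoint (ResidueField RS))]
      exact IsLocalRing.comap_closedPoint (residue RS)
    · exact hF0 P hP
  · exact (EtMV.ψ (Spec.map (CommRingCat.ofHom g)) (Spec.map (CommRingCat.ofHom φ)) (π ≫ e) hw).app F₀ ≪≫
      ((EtMV.ψ π e (π ≫ e) rfl).app F₀).symm

/-- **exactness of additivity, strictly local case** -/
theorem not_depthGE_pull_local {RS RX RZ : Type u} [CommRing RS] [CommRing RX] [CommRing RZ]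
    [HenselianLocalRing RS] [HenselianLocalRing RX] [HenselianLocalRing RZ] [IsSepClosed (ResidueField RS)]
    [IsSepClosed (ResidueField RX)] [IsSepClosed (ResidueField RZ)] [IsNoetherianRing RX] [IsNoetherianRing RZ]
    (φ : RS →+* RX) [IsLocalHom φ] (g : RX →+* RZ) (hg : Function.Surjective g) (τ : ResidueField RS →+* RZ)
    (hτ : g.comp φ = τ.comp (residue RS))
    (hfib : ∀ P : Spec (CommRingCat.of RX), Spec.map (CommRingCat.ofHom φ) P = closedPoint RS →
      P ∈ Set.range (Spec.map (CommRingCat.ofHom g)))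
    (hsurj : Function.Surjective (Spec.map (CommRingCat.ofHom φ)))
    {ℓ : ℕ} (hℓ : ℓ.Prime) {m : ℕ} (hφ : EtAcyc.IsLocAcyclicN (Spec.map (CommRingCat.ofHom φ)) {ℓ} m) {q : ℕ}
    (hZ : DepthGE (FEt.puncturedSpec RZ).ι (EtCoh.const (Spec (CommRingCat.of RZ)) (ZMod ℓ)) q)
    (hZ' : ¬ DepthGE (FEt.puncturedSpec RZ).ι (EtCoh.const (Spec (CommRingCat.of RZ)) (ZMod ℓ)) (q + 1)) :
    ∀ (p : ℕ) (G : EtCoh.Ab (Spec (CommRingCat.of RS))), EtAcyc.IsLTorsion {ℓ} G →
      DepthGE (FEt.puncturedSpec RS).ι G p → ¬ DepthGE (FEt.puncturedSpec RS).ι G (p + 1) → p + q + 1 ≤ m + 2 →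
      ¬ DepthGE (FEt.puncturedSpec RX).ι ((EtCoh.pull (Spec.map (CommRingCat.ofHom φ))).obj G) (p + q + 1) := by
  let f := Spec.map (CommRingCat.ofHom φ)
  let j := (FEt.puncturedSpec RS).ι
  let ιX := (FEt.puncturedSpec RX).ι
  haveI : QuasiCompact j := quasiCompact_punctured φ hsurj
  haveI : CompactSpace (FEt.puncturedSpec RS).toScheme := QuasiCompact.compactSpace_of_compactSpace j
  haveI := EtCohDesc.pull_preservesFiniteLimits f
  haveI := EtCohDesc.pull_preservesFiniteLimits j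
  haveI := EtCohDesc.pull_preservesFiniteLimits (f ∣_ FEt.puncturedSpec RS)
  intro p
  induction p with
  | zero =>
    intro G hG _ hnd hm h
    haveI := EtMV.mono_lcι j G
    let u := EtDual.unitApp j G
    let S : ShortComplex (EtCoh.Ab (Spec (CommRingCat.of RS))) :=
      ShortComplex.mk (kernel.ι u) (cokernel.π (kernel.ι u)) (cokernel.condition _)
    have hS : S.ShortExact := { exact := ShortComplex.exact_of_g_is_cokernel _ (cokernelIsCokernel _) }
    let v : S.X₃ ⟶ (EtCoh.push j).obj ((EtCoh.pull j).obj G) := Abelian.factorThruCoimage u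
    haveI : Mono v := inferInstanceAs (Mono (Abelian.factorThruCoimage u))
    have h3 : DepthGE j S.X₃ 1 :=
      (depthGE_one_iff j _).2 (isZero_secSupp_of_mono j v (isZero_secSupp_push j _))
    have h3' := depthGE_pull_local φ g hg τ hτ hfib hsurj hℓ hφ hZ q 1 S.X₃
      (EtAcycX.isLTorsion_of_epi _ (cokernel.π (kernel.ι u)) hG) h3 (by omega) (by omega)
    rw [zero_add] at h
    refine not_depthGE_pull_closedFibre φ g hg τ hτ hfib hℓ ((EtDual.secSupp j).obj G)
      (isLTorsion_of_mono ((EtMV.lcι j).app G) hG) (fun P hP => ?_) (fun hz => hnd ((depthGE_one_iff j _).2 hz))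
      hZ hZ' (depthGE_left ιX (hS.map_of_exact (EtCoh.pull f)) h h3')
    obtain ⟨P', hP'⟩ := (range_puncturedSpec RS P).2 hP
    obtain ⟨Ω, _, _, ζ, hζ⟩ := EtPBC.exists_geomPt P'
    refine (EtPBC.isZero_stalk_iff_zeroAt (ξ := ζ ≫ j) (by rw [Scheme.Hom.comp_apply, hζ, hP']) _).1 ?_
    exact ((EtCoh.stalk ζ).map_isZero (isZero_pull_secSupp j G)).of_iso ((EtStalk.stalkPullIso _ ζ).app _)
  | succ p ih =>
    intro G hG hd hnd hm h
    haveI : Mono (EtDual.unitApp j G) :=
      Preadditive.mono_of_kernel_zero ((isZero_secSupp_of_depthGE j (by omega) hd).eq_of_src _ _)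
    obtain ⟨T, e, he, hcac, hT⟩ := EtAcycX.exists_hullL {ℓ} (EtAcycX.isLTorsion_pull j hG)
    let ι₀ : G ⟶ (EtCoh.push j).obj T := EtDual.unitApp j G ≫ (EtCoh.push j).map e
    haveI : Mono ((EtCoh.push j).map e) := inferInstance
    haveI : Mono ι₀ := mono_comp _ _
    let S : ShortComplex (EtCoh.Ab (Spec (CommRingCat.of RS))) :=
      ShortComplex.mk ι₀ (cokernel.π ι₀) (cokernel.condition ι₀)
    have hS : S.ShortExact := { exact := ShortComplex.exact_of_g_is_cokernel _ (cokernelIsCokernel _) }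
    have hR : ∀ q : ℕ, 1 ≤ q → IsZero ((EtCoh.Rpush j q).obj T) := fun q hq => by
      obtain ⟨q, rfl⟩ : ∃ k, q = k + 1 := ⟨q - 1, by omega⟩
      exact EtColimH.isZero_rpush_of_cac j q T hcac
    have hIt : EtAcyc.IsLTorsion {ℓ} S.X₂ := EtColimH.locKilled_push (EtAcycX.exponents {ℓ}) j hT
    have hI : ∀ n, DepthGE j S.X₂ n := fun n => depthGE_push j T n fun q hq _ => hR q hq
    have h3 : DepthGE j S.X₃ p := depthGE_right j hS (hI p) hd
    have h3n : ¬ DepthGE j S.X₃ (p + 1) := fun h4 => hnd (depthGE_left j hS (hI (p + 1 + 1)) h4)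
    have c := (isPullback_morphismRestrict f (FEt.puncturedSpec RS))
    have h2 : DepthGE ιX ((EtCoh.pull f).obj S.X₂) (p + q + 1) := by
      refine EtMV.depthGE_of_le (f ⁻¹ᵁ FEt.puncturedSpec RS).ι ιX ?_ (p + q + 1) _
        (depthGE_pull_push_locAcyclic f j _ _ c hφ T hT (p + q + 1) (by omega) fun q hq _ => hR q hq)
      intro P hP
      rw [Scheme.Opens.range_ι] at hP
      refine (range_puncturedSpec RX P).2 fun h => ?_
      subst h
      refine (range_puncturedSpec RS _).1 (by rwa [Scheme.Opens.range_ι]) ?_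
      exact IsLocalRing.comap_closedPoint φ
    refine ih S.X₃ (EtAcycX.isLTorsion_of_epi _ (cokernel.π ι₀) hIt) h3 h3n (by omega)
      (depthGE_right ιX (hS.map_of_exact (EtCoh.pull f)) h2 ?_)
    rwa [show p + q + 1 + 1 = p + 1 + q + 1 by omega]

end Groth.Agent.EtDepthX
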