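import Groth.Agent.EtDepthX.Points
import Groth.Agent.EtAcycX.ZDimComp
import Groth.Agent.EtAcycX.Descend
import Groth.Agent.EtPushStalk.UnivInj
import Groth.Agent.EtIntegral.Push
import Mathlib

/-!
# Depth of sheaves supported on the closed fibre
-/

set_option autoImplicit false
set_option backward.isDefEq.respectTransparency false
set_option backward.isDefEq.respectTransparency.types false
set_option linter.unusedSectionVars false
set_option linter.style.haveILetI false
set_option linter.overlappingInstances false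
set_option maxHeartbeats 1000000
set_option synthInstance.maxHeartbeats 400000

universe u

open CategoryTheory CategoryTheory.Limits CategoryTheory.Abelian AlgebraicGeometry Opposite IsLocalRing

noncomputable section

namespace Groth.Agent.EtDepthX

attribute [local instance 100000] EtCoh.H._proof_1 Groth.Agent.EtMV.hext
attribute [local instance 200000] Groth.Agent.EtMV.hextAb

open EtDepth (DepthGE)
open EtAcycX (Kd)

section Compose

variable {A B S : Scheme.{u}} (f : A ⟶ B) (t : B ⟶ S) (f₀ : A ⟶ S) (w : f ≫ t = f₀)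
  [PreservesFiniteLimits (EtCoh.pull f)] [PreservesFiniteLimits (EtCoh.pull t)]
  [PreservesFiniteLimits (EtCoh.pull f₀)] (G : EtCoh.Ab S) (q : ℕ)

include w in
theorem exists_Hpull_comp : ∃ φ : EtCoh.H A ((EtCoh.pull f).obj ((EtCoh.pull t).obj G)) q →
    EtCoh.H A ((EtCoh.pull f₀).obj G) q, Function.Bijective φ ∧
      ⇑(EtCore.Hpull f₀ G q) = φ ∘ ⇑(EtCore.Hpull f ((EtCoh.pull t).obj G) q) ∘ ⇑(EtCore.Hpull t G q) := by
  haveI := EtAcycX.isIso_ψh f t f₀ w G
  exact ⟨fun x => Ext.comp x (Ext.mk₀ (EtLimit.ψh f t f₀ w G)) (add_zero q),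
    EtAcycX.bijective_comp_iso (EtLimit.ψh f t f₀ w G) q,
    funext fun x => (EtAcycX.Hpull_HpullVia f t f₀ w G q x).symm⟩

include w in
theorem Hpull_comp_inj_bij (hf : Function.Bijective (EtCore.Hpull f ((EtCoh.pull t).obj G) q)) :
    (Function.Injective (EtCore.Hpull f₀ G q) → Function.Injective (EtCore.Hpull t G q)) ∧
      (Function.Bijective (EtCore.Hpull f₀ G q) → Function.Bijective (EtCore.Hpull t G q)) := by
  obtain ⟨φ, hφ, e⟩ := exists_Hpull_comp f t f₀ w G q
  rw [e]
  exact ⟨fun h => (h.of_comp).of_comp,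
    fun h => (Function.Bijective.of_comp_iff' hf _).1 ((Function.Bijective.of_comp_iff' hφ _).1 h)⟩

include w in
theorem Hpull_comp_inj_bij' (ht : Function.Bijective (EtCore.Hpull t G q)) :
    (Function.Injective (EtCore.Hpull f ((EtCoh.pull t).obj G) q) → Function.Injective (EtCore.Hpull f₀ G q)) ∧
      (Function.Bijective (EtCore.Hpull f ((EtCoh.pull t).obj G) q) → Function.Bijective (EtCore.Hpull f₀ G q)) := by
  obtain ⟨φ, hφ, e⟩ := exists_Hpull_comp f t f₀ w G q
  rw [e]
  exact ⟨fun h => hφ.1.comp (h.comp ht.1), fun h => hφ.comp (h.comp ht)⟩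

end Compose

section Support

variable {X Z : Scheme.{u}} (i : Z ⟶ X) [IsClosedImmersion i]

/-- sheaves supported on a closed subscheme -/
theorem isIso_unit_of_support (K : EtCoh.Ab X) (h0 : ∀ x, x ∉ Set.range i → EtPBC.ZeroAt K x) :
    IsIso ((EtCoh.pullPushAdj i).unit.app K) := by
  obtain ⟨G, ⟨e⟩⟩ := (EtPushStalk.essImage_closedImmersion i K).2 fun Ω _ _ ξ hξ =>
    (EtPBC.isZero_stalk_iff_zeroAt (ξ := ξ) rfl K).2 (h0 _ hξ)
  haveI := EtPushStalk.isIso_counit i (EtPushStalk.liftProp_of_closedImmersion i) G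
  haveI : IsIso ((EtCoh.pullPushAdj i).unit.app ((EtCoh.push i).obj G)) := by
    have h := (EtCoh.pullPushAdj i).right_triangle_components G
    haveI : IsIso ((EtCoh.pullPushAdj i).unit.app ((EtCoh.push i).obj G) ≫
        (EtCoh.push i).map ((EtCoh.pullPushAdj i).counit.app G)) := by
      rw [show _ = _ from h]; exact IsIso.id _
    exact IsIso.of_isIso_comp_right _ ((EtCoh.push i).map ((EtCoh.pullPushAdj i).counit.app G))
  have hn := (EtCoh.pullPushAdj i).unit.naturality e.inv
  rw [show (EtCoh.pullPushAdj i).unit.app K = e.inv ≫ (EtCoh.pullPushAdj i).unit.app ((EtCoh.push i).obj G) ≫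
    (EtCoh.pull i ⋙ EtCoh.push i).map e.hom from by
      rw [← Category.assoc]
      erw [hn]
      rw [Category.assoc, ← Functor.map_comp, Iso.inv_hom_id, CategoryTheory.Functor.map_id, Category.comp_id]]
  infer_instance

theorem bijective_Hpull_of_support [PreservesFiniteLimits (EtCoh.pull i)] (K : EtCoh.Ab X)
    (h0 : ∀ x, x ∉ Set.range i → EtPBC.ZeroAt K x) (q : ℕ) : Function.Bijective (EtCore.Hpull i K q) := by
  haveI := isIso_unit_of_support i K h0
  exact (EtAcycX.compN_of_unit i K q fun p _ => EtIntegral.Rpush_succ_isZero i _ p).1 q le_rfl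

theorem zeroAt_pull {Y : Scheme.{u}} (f : Y ⟶ X) (K : EtCoh.Ab X) (y : Y) (h : EtPBC.ZeroAt K (f y)) :
    EtPBC.ZeroAt ((EtCoh.pull f).obj K) y := by
  obtain ⟨Ω, _, _, ζ, hζ⟩ := EtPBC.exists_geomPt y
  exact (EtPBC.isZero_stalk_iff_zeroAt (ξ := ζ) hζ _).1
    (((EtPBC.isZero_stalk_iff_zeroAt (ξ := ζ ≫ f) (by rw [Scheme.Hom.comp_apply, hζ]) K).2 h).of_iso
      ((EtStalk.stalkPullIso f ζ).app K).symm)

end Support

section Transfer

variable {RX RZ : Type u} [CommRing RX] [CommRing RZ] [HenselianLocalRing RX] [HenselianLocalRing RZ]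
  [IsSepClosed (ResidueField RX)] [IsSepClosed (ResidueField RZ)]

theorem eq_closedPoint_of_surjective (g : RX →+* RZ) (hg : Function.Surjective g)
    (P : Spec (CommRingCat.of RZ)) (h : Spec.map (CommRingCat.ofHom g) P = closedPoint RX) : P = closedPoint RZ := by
  haveI : IsLocalHom g := IsLocalHom.of_surjective _ hg
  refine PrimeSpectrum.ext ?_
  have h1 : Ideal.comap g P.asIdeal = maximalIdeal RX := congrArg PrimeSpectrum.asIdeal h
  show P.asIdeal = maximalIdeal RZ
  rw [← Ideal.map_comap_of_surjective g hg P.asIdeal, h1, ← Ideal.map_comap_of_surjective g hg (maximalIdeal RZ)]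
  exact congrArg (Ideal.map g) (congrArg PrimeSpectrum.asIdeal (IsLocalRing.comap_closedPoint g)).symm

/-- depth of sheaves supported on a closed subscheme containing the closed point -/
theorem depthGE_of_support (g : RX →+* RZ) (hg : Function.Surjective g)
    (K : EtCoh.Ab (Spec (CommRingCat.of RX)))
    (h0 : ∀ x, x ∉ Set.range (Spec.map (CommRingCat.ofHom g)) → EtPBC.ZeroAt K x) (n : ℕ)
    (h : DepthGE (FEt.puncturedSpec RZ).ι ((EtCoh.pull (Spec.map (CommRingCat.ofHom g))).obj K) n) :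
    DepthGE (FEt.puncturedSpec RX).ι K n := by
  let i := Spec.map (CommRingCat.ofHom g)
  let ιX := (FEt.puncturedSpec RX).ι
  let ιZ := (FEt.puncturedSpec RZ).ι
  haveI : IsClosedImmersion i := IsClosedImmersion.spec_of_surjective _ hg
  haveI : IsLocalHom g := IsLocalHom.of_surjective _ hg
  have hr : Set.range (ιZ ≫ i).base ⊆ Set.range ιX.base := by
    rintro _ ⟨P, rfl⟩
    refine (range_puncturedSpec RX _).2 fun hP => ?_
    rw [Scheme.Hom.comp_apply] at hP
    exact (range_puncturedSpec RZ _).1 ⟨P, rfl⟩ (eq_closedPoint_of_surjective g hg _ hP)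
  let jZ := IsOpenImmersion.lift ιX (ιZ ≫ i) hr
  have wj : jZ ≫ ιX = ιZ ≫ i := IsOpenImmersion.lift_fac _ _ _
  have hpb : IsPullback jZ ιZ ιX i := IsOpenImmersion.isPullback jZ ιZ ιX i wj.symm (by
    refine TopologicalSpace.Opens.ext (Set.ext fun P => ?_)
    show i P ∈ Set.range ιX ↔ P ∈ Set.range ιZ
    rw [range_puncturedSpec, range_puncturedSpec]
    exact not_congr ⟨eq_closedPoint_of_surjective g hg P, fun hP => hP ▸ IsLocalRing.comap_closedPoint g⟩)
  haveI : IsClosedImmersion jZ := MorphismProperty.of_isPullback (P := @IsClosedImmersion) hpb.flip ‹_›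
  haveI := EtCohDesc.pull_preservesFiniteLimits jZ
  haveI := EtCohDesc.pull_preservesFiniteLimits i
  haveI := EtCohDesc.pull_preservesFiniteLimits ιX
  haveI := EtCohDesc.pull_preservesFiniteLimits ιZ
  haveI := EtCohDesc.pull_preservesFiniteLimits (ιZ ≫ i)
  have hsupp : ∀ u, u ∉ Set.range jZ → EtPBC.ZeroAt ((EtCoh.pull ιX).obj K) u := fun u hu =>
    zeroAt_pull ιX K u (h0 _ fun ⟨P, hP⟩ => hu (by
      obtain ⟨v, hv, -⟩ := Scheme.Pullback.exists_preimage_pullback (f := ιX) (g := i) u P hP.symm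
      refine ⟨hpb.isoPullback.inv v, ?_⟩
      rw [← Scheme.Hom.comp_apply, hpb.isoPullback_inv_fst]
      exact hv))
  obtain ⟨hb, hi⟩ := (depthGE_punctured_iff _ n).1 h
  have key := fun p => Hpull_comp_inj_bij jZ ιX (ιZ ≫ i) wj K p (bijective_Hpull_of_support jZ _ hsupp p)
  have key' := fun p => Hpull_comp_inj_bij' ιZ i (ιZ ≫ i) rfl K p (bijective_Hpull_of_support i K h0 p)
  exact (depthGE_punctured_iff K n).2
    ⟨fun p hp => (key p).2 ((key' p).2 (hb p hp)), fun p hp => (key p).1 ((key' p).1 (hi p hp))⟩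

/-- depth passes to filtered colimits -/
theorem depthGE_colimit [IsNoetherianRing RZ] {J : Type (u + 1)} [SmallCategory J] [IsFiltered J]
    {D : J ⥤ EtCoh.Ab (Spec (CommRingCat.of RZ))} {c : Cocone D} (hc : IsColimit c) (n : ℕ)
    (h : ∀ j, DepthGE (FEt.puncturedSpec RZ).ι (D.obj j) n) : DepthGE (FEt.puncturedSpec RZ).ι c.pt n := by
  let ι := (FEt.puncturedSpec RZ).ι
  haveI := EtCohDesc.pull_preservesFiniteLimits ι
  haveI : IsLocallyNoetherian (FEt.puncturedSpec RZ).toScheme := isLocallyNoetherian_of_isOpenImmersion ι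
  haveI : QuasiCompact ι := inferInstance
  haveI : CompactSpace (FEt.puncturedSpec RZ).toScheme := QuasiCompact.compactSpace_of_compactSpace ι
  exact (depthGE_punctured_iff _ n).2
    ⟨fun p hp => ⟨(EtAcycX.comp_of_colimit ι hc p).1 fun j => (((depthGE_punctured_iff _ n).1 (h j)).1 p hp).1,
      (EtAcycX.comp_of_colimit ι hc p).2 fun j => (((depthGE_punctured_iff _ n).1 (h j)).1 p hp).2⟩,
      fun p hp => (EtAcycX.comp_of_colimit ι hc p).1 fun j => ((depthGE_punctured_iff _ n).1 (h j)).2 p hp⟩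

variable {k : Type u} [CommRing k] [HenselianLocalRing k] [IsSepClosed (ResidueField k)] (hk : IsField k)
  (π : Spec (CommRingCat.of RZ) ⟶ Spec (CommRingCat.of k)) {ℓ : ℕ} (hℓ : ℓ.Prime) {n : ℕ}

include hk hℓ in
theorem depthGE_pull_point_finite {m : ℕ} (hm : EtAcyc.PrimesIn {ℓ} m)
    (hZ : DepthGE (FEt.puncturedSpec RZ).ι (EtCoh.const (Spec (CommRingCat.of RZ)) (ZMod ℓ)) n) :
    ∀ (c : ℕ) (F : EtCoh.Ab (Spec (CommRingCat.of k))), Kd m F →
      Finite ((EtCoh.stalk (EtHens.pt k)).obj F) → Nat.card ((EtCoh.stalk (EtHens.pt k)).obj F) ≤ c →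
      DepthGE (FEt.puncturedSpec RZ).ι ((EtCoh.pull π).obj F) n := by
  haveI := EtCohDesc.pull_preservesFiniteLimits π
  intro c
  induction c with
  | zero => exact fun F _ _ hc => absurd hc (Nat.not_le.2 Nat.card_pos)
  | succ c ih =>
    intro F hF hfin hc
    let st := EtCoh.stalk (EtHens.pt k)
    by_cases hsub : Subsingleton (st.obj F)
    · intro p _
      haveI : (EtDual.locCoh (FEt.puncturedSpec RZ).ι p).Additive :=
        inferInstanceAs (((EtDual.secSupp (FEt.puncturedSpec RZ).ι).rightDerived p).Additive)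
      exact (EtDual.locCoh (FEt.puncturedSpec RZ).ι p).map_isZero
        ((EtCoh.pull π).map_isZero (EtAcycX.isZero_of_stalk_pt k hk))
    haveI : Nontrivial (st.obj F) := not_subsingleton_iff_nontrivial.1 hsub
    obtain ⟨ℓ', φ, hℓ', hdvd, hφ⟩ := EtAcycX.exists_const_mono k hk hF
    obtain rfl : ℓ' = ℓ := hm.2 ℓ' hℓ' hdvd
    let S : ShortComplex (EtCoh.Ab (Spec (CommRingCat.of k))) :=
      ShortComplex.mk φ (cokernel.π φ) (cokernel.condition φ)
    have hS : S.ShortExact := { exact := ShortComplex.exact_of_g_is_cokernel _ (cokernelIsCokernel _) }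
    haveI : PreservesFiniteLimits st := inferInstance
    haveI : PreservesFiniteColimits st := inferInstance
    haveI : st.Additive := Functor.additive_of_preserves_binary_products _
    have hst := hS.map_of_exact st
    haveI : Epi (st.map S.g) := hst.epi_g
    have hsurj := (AddCommGrpCat.epi_iff_surjective (st.map S.g)).1 inferInstance
    haveI : Finite (st.obj S.X₃) := Finite.of_surjective _ hsurj
    refine depthGE_mid _ (hS.map_of_exact (EtCoh.pull π))
      (depthGE_of_iso _ (EtCons.pullConstM π (ZMod ℓ')).symm hZ)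
      (ih S.X₃ (hF.of_epi (cokernel.π φ)) ‹Finite (st.obj S.X₃)› ?_)
    have hlt : Nat.card (st.obj S.X₃) < Nat.card (st.obj F) := by
      refine lt_of_le_of_ne (Nat.card_le_card_of_surjective _ hsurj) fun he => ?_
      have hb := (Nat.bijective_iff_surjective_and_card (st.map S.g)).2 ⟨hsurj, he.symm⟩
      haveI : Finite (st.obj S.X₁) := Nat.finite_of_card_ne_zero (by
        show Nat.card (st.obj (EtCoh.const _ (ZMod ℓ'))) ≠ 0
        rw [EtAcycX.card_stalk_const, Nat.card_zmod]; exact hℓ.ne_zero)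
      haveI : Nontrivial (st.obj S.X₁) := by
        rw [← Finite.one_lt_card_iff_nontrivial]
        show 1 < Nat.card (st.obj (EtCoh.const _ (ZMod ℓ')))
        rw [EtAcycX.card_stalk_const, Nat.card_zmod]
        exact hℓ.one_lt
      obtain ⟨a, ha⟩ := exists_ne (0 : st.obj S.X₁)
      refine ha ((AddCommGrpCat.mono_iff_injective (st.map S.f)).1 hst.mono_f (hb.1 ?_))
      rw [map_zero, map_zero]
      exact ConcreteCategory.congr_hom (S.map st).zero a
    show Nat.card (st.obj S.X₃) ≤ c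
    have hc2 : Nat.card (st.obj F) ≤ c + 1 := hc
    omega

include hk hℓ in
/-- torsion sheaves from a separably closed point -/
theorem depthGE_pull_point [IsNoetherianRing RZ]
    (hZ : DepthGE (FEt.puncturedSpec RZ).ι (EtCoh.const (Spec (CommRingCat.of RZ)) (ZMod ℓ)) n)
    (G : EtCoh.Ab (Spec (CommRingCat.of k))) (hG : EtAcyc.IsLTorsion {ℓ} G) :
    DepthGE (FEt.puncturedSpec RZ).ι ((EtCoh.pull π).obj G) n := by
  haveI := (EtCoh.pullPushAdj π).leftAdjoint_preservesColimits.{u + 1, u + 1}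
  obtain ⟨hc⟩ := EtAcycX.nonempty_isColimit_kdCocone {ℓ} G hG
  refine depthGE_colimit (isColimitOfPreserves (EtCoh.pull π) hc) n fun a => ?_
  have ha := a.down.down.2
  obtain ⟨J, _, _, D, c, hpt, hc', hD⟩ :=
    EtAcycX.exists_colimit_constructible ha.1 _ (EtAcycX.kd_tor G a.down.down.1)
  refine depthGE_of_iso _ ((EtCoh.pull π).mapIso (eqToIso hpt))
    (depthGE_colimit (isColimitOfPreserves (EtCoh.pull π) hc') n fun j => ?_)
  exact depthGE_pull_point_finite hk π hℓ ha hZ _ (D.obj j) (hD j).2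
    (EtCons.finite_stalk_of_isConstructible _ (hD j).1 _) le_rfl

end Transfer

/-- **depth on the closed fibre** -/
theorem depthGE_pull_closedFibre {RS RX RZ : Type u} [CommRing RS] [CommRing RX] [CommRing RZ]
    [HenselianLocalRing RS] [HenselianLocalRing RX] [HenselianLocalRing RZ] [IsSepClosed (ResidueField RS)]
    [IsSepClosed (ResidueField RX)] [IsSepClosed (ResidueField RZ)] [IsNoetherianRing RZ]
    (φ : RS →+* RX) (g : RX →+* RZ) (hg : Function.Surjective g) (τ : ResidueField RS →+* RZ)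
    (hτ : g.comp φ = τ.comp (residue RS))
    (hfib : ∀ P : Spec (CommRingCat.of RX), Spec.map (CommRingCat.ofHom φ) P = closedPoint RS →
      P ∈ Set.range (Spec.map (CommRingCat.ofHom g)))
    {ℓ : ℕ} (hℓ : ℓ.Prime) (F₀ : EtCoh.Ab (Spec (CommRingCat.of RS))) (hF : EtAcyc.IsLTorsion {ℓ} F₀)
    (hF0 : ∀ P, P ≠ closedPoint RS → EtPBC.ZeroAt F₀ P) {n : ℕ}
    (hZ : DepthGE (FEt.puncturedSpec RZ).ι (EtCoh.const (Spec (CommRingCat.of RZ)) (ZMod ℓ)) n) :
    DepthGE (FEt.puncturedSpec RX).ι ((EtCoh.pull (Spec.map (CommRingCat.ofHom φ))).obj F₀) n := by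
  haveI : IsSepClosed (ResidueField (ResidueField RS)) :=
    Hensel.isSepClosed_of_ringEquiv
      (RingEquiv.ofBijective (residue (ResidueField RS)) ⟨RingHom.injective _, residue_surjective⟩)
  let e := EtHens.pt RS
  let π := Spec.map (CommRingCat.ofHom τ)
  have hw : Spec.map (CommRingCat.ofHom g) ≫ Spec.map (CommRingCat.ofHom φ) = π ≫ e := by
    rw [← Spec.map_comp, ← Spec.map_comp, ← CommRingCat.ofHom_comp, hτ, CommRingCat.ofHom_comp]
  refine depthGE_of_support g hg _ (fun x hx => zeroAt_pull _ F₀ x (hF0 _ fun h => hx (hfib x h))) n ?_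
  refine depthGE_of_iso _ ?_
    (depthGE_pull_point (Field.toIsField _) π hℓ hZ _ (EtAcycX.isLTorsion_pull e hF))
  exact (EtMV.ψ π e (π ≫ e) rfl).app F₀ ≪≫
    ((EtMV.ψ (Spec.map (CommRingCat.ofHom g)) (Spec.map (CommRingCat.ofHom φ)) (π ≫ e) hw).app F₀).symm

end Groth.Agent.EtDepthX
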