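import Groth.Agent.Unibranch.FibreChains
import Groth.Agent.FlatDim.DimSets
import Mathlib

/-!
# Closed subsets with small fibre dimension are contained in constructible ones
-/

set_option autoImplicit false
set_option backward.isDefEq.respectTransparency false
set_option backward.isDefEq.respectTransparency.types false
set_option linter.unusedSectionVars false
set_option linter.style.haveILetI false
set_option maxHeartbeats 1000000

universe u

open CategoryTheory CategoryTheory.Limits AlgebraicGeometry TopologicalSpace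

noncomputable section

namespace Groth.Agent.EtDepthX

variable {X S : Scheme.{u}} (g : X ⟶ S) [LocallyOfFiniteType g]

/-- fibre dimensions of closed subschemes are monotone in the underlying subsets of a fibre -/
theorem fibreDimAt_le_of_fibre_subset {Y Y' : Scheme.{u}} (i : Y ⟶ X) [IsClosedImmersion i] (i' : Y' ⟶ X)
    [IsClosedImmersion i'] (z : Y) (z' : Y') (hz : i z = i' z')
    (hsub : ∀ w : Y', g (i' w) = g (i' z') → i' w ∈ Set.range i) {d : ℕ}
    (hd : FlatMor.fibreDimAt (i ≫ g) z ≤ (d : WithBot ℕ∞)) :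
    FlatMor.fibreDimAt (i' ≫ g) z' ≤ (d : WithBot ℕ∞) := by
  obtain ⟨O, hzO, hO⟩ := (Unibranch.fibreDimAt_le_iff (i ≫ g) z).1 hd
  obtain ⟨O', hO', hOeq⟩ := i.isClosedEmbedding.isInducing.isOpen_iff.1 O.2
  refine (Unibranch.fibreDimAt_le_iff (i' ≫ g) z').2 ⟨i' ⁻¹ᵁ ⟨O', hO'⟩, ?_, fun k c hc hc' => ?_⟩
  · show i' z' ∈ O'
    rw [← hz]
    exact hOeq.ge hzO
  have hf : ∀ l, g (i' (c l)) = g (i' z') := fun l => by
    have h := (hc l).2
    rwa [Scheme.Hom.comp_apply, Scheme.Hom.comp_apply] at h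
  choose w hw using fun l => hsub (c l) (hf l)
  refine hO k w (fun l => ⟨hOeq.le (show i (w l) ∈ O' by rw [hw]; exact (hc l).1), ?_⟩) fun l =>
    ⟨i.isClosedEmbedding.isInducing.specializes_iff.1 (by rw [hw, hw]; exact (hc' l).1.map i'.continuous),
      fun e => (hc' l).2 (i'.isClosedEmbedding.injective (by rw [← hw, ← hw, e]))⟩
  rw [Scheme.Hom.comp_apply, Scheme.Hom.comp_apply, hw, hf, hz]

/-- the reduced closed subscheme on a closed subset -/
abbrev redI (C : Closeds X) : (Scheme.IdealSheafData.vanishingIdeal C).subscheme ⟶ X :=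
  (Scheme.IdealSheafData.vanishingIdeal C).subschemeι

theorem range_redI (C : Closeds X) : Set.range (redI C) = (C : Set X) := by
  rw [Scheme.IdealSheafData.range_subschemeι, Scheme.IdealSheafData.coe_support_vanishingIdeal]

/-- a closed subset with small fibre dimension avoids a quasi-compact open whose complement still has small
fibre dimension -/
theorem exists_compact_open_fibreDimAt_le [CompactSpace X] [QuasiCompact g] {Y : Scheme.{u}} (i : Y ⟶ X) [IsClosedImmersion i]
    {d : ℕ} (hd : ∀ z : Y, FlatMor.fibreDimAt (i ≫ g) z ≤ (d : WithBot ℕ∞)) :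
    ∃ V : X.Opens, IsCompact (V : Set X) ∧ (∀ y : Y, i y ∉ V) ∧
      ∀ z, FlatMor.fibreDimAt (redI V.compl ≫ g) z ≤ (d : WithBot ℕ∞) := by
  classical
  let O : X.Opens := ⟨(Set.range i)ᶜ, i.isClosedEmbedding.isClosed_range.isOpen_compl⟩
  let T := {V : X.Opens // IsCompact (V : Set X) ∧ V ≤ O}
  let E : T → Set X := fun V => redI V.1.compl '' {z | FlatMor.fibreDimAt (redI V.1.compl ≫ g) z ≤ (d : WithBot ℕ∞)}ᶜ
  have hE : ∀ V, IsClosed (E V) := fun V => (redI V.1.compl).isClosedEmbedding.isClosedMap _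
    (FlatDim.isOpen_fibreDimAt_le _ d).isClosed_compl
  have hmono : ∀ V V' : T, V.1 ≤ V'.1 → E V' ⊆ E V := by
    rintro V V' hVV' _ ⟨z', hz', rfl⟩
    have hr : ∀ w, redI V'.1.compl w ∈ Set.range (redI V.1.compl) := fun w => by
      rw [range_redI]
      exact fun h => ((range_redI V'.1.compl).le ⟨w, rfl⟩) (hVV' h)
    obtain ⟨z, hz⟩ := hr z'
    exact ⟨z, fun h => hz' (fibreDimAt_le_of_fibre_subset g _ _ z z' hz (fun w _ => hr w) h), hz⟩
  have hempty : ∀ x : X, ∃ V : T, x ∉ E V := by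
    intro x
    by_cases hx : x ∈ O
    · obtain ⟨W, hW, hxW, hWO⟩ := exists_isAffineOpen_mem_and_subset (U := O) hx
      refine ⟨⟨W, hW.isCompact, hWO⟩, ?_⟩
      rintro ⟨z, -, rfl⟩
      exact (range_redI W.compl).le ⟨z, rfl⟩ hxW
    · obtain ⟨y, rfl⟩ : x ∈ Set.range i := not_not.1 hx
      let s := g (i y)
      haveI : LocallyOfFiniteType (g.fiberToSpecResidueField s) := MorphismProperty.pullback_snd _ _ ‹_›
      haveI : IsLocallyNoetherian (g.fiber s) := LocallyOfFiniteType.isLocallyNoetherian (g.fiberToSpecResidueField s)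
      have hc : IsCompact ((O : Set X) ∩ g ⁻¹' {s}) := by
        rw [← Scheme.Hom.range_fiberι]
        obtain ⟨U, hU, hyU, -⟩ := exists_isAffineOpen_mem_and_subset (U := (⊤ : X.Opens)) (x := i y) trivial
        haveI : QuasiCompact (g.fiberToSpecResidueField s) := MorphismProperty.pullback_snd _ _ ‹_›
        haveI : CompactSpace (g.fiber s) :=
          QuasiCompact.compactSpace_of_compactSpace (g.fiberToSpecResidueField s)
        haveI : IsNoetherian (g.fiber s) := {}
        haveI : NoetherianSpace (g.fiber s) := inferInstance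
        rw [← Set.image_preimage_eq_inter_range]
        exact (NoetherianSpace.isCompact _).image (g.fiberι s).continuous
      obtain ⟨W, hWc, hOW, hWO⟩ : ∃ W : X.Opens, IsCompact (W : Set X) ∧ (O : Set X) ∩ g ⁻¹' {s} ⊆ W ∧ W ≤ O := by
        choose W hW hxW hWO using fun p : {p // p ∈ (O : Set X) ∩ g ⁻¹' {s}} =>
          exists_isAffineOpen_mem_and_subset (U := O) (x := p.1) p.2.1
        obtain ⟨t, ht⟩ := hc.elim_finite_subcover (fun p => (W p : Set X)) (fun p => (W p).2)
          (fun p hp => Set.mem_iUnion.2 ⟨⟨p, hp⟩, hxW ⟨p, hp⟩⟩)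
        exact ⟨⟨⋃ p ∈ t, (W p : Set X), isOpen_biUnion fun p _ => (W p).2⟩,
          t.isCompact_biUnion fun p _ => (hW p).isCompact, ht, Set.iUnion₂_subset fun p _ => hWO p⟩
      refine ⟨⟨W, hWc, hWO⟩, ?_⟩
      rintro ⟨z, hz, hzy⟩
      refine hz (fibreDimAt_le_of_fibre_subset g i _ y z hzy.symm (fun w hw => ?_) (hd y))
      by_contra h
      have hw' : redI W.compl w ∈ g ⁻¹' {s} := by
        show g _ = s
        rw [hw, hzy]
      exact (range_redI W.compl).le ⟨w, rfl⟩ (hOW ⟨h, hw'⟩)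
  obtain ⟨t, ht⟩ := CompactSpace.isCompact_univ.elim_finite_subcover (fun V : T => (E V)ᶜ)
    (fun V => (hE V).isOpen_compl) (fun x _ => Set.mem_iUnion.2 ((hempty x).imp fun _ h => h))
  let V : T := ⟨⟨⋃ V ∈ t, (V.1 : Set X), isOpen_biUnion fun V _ => V.1.2⟩,
    t.isCompact_biUnion fun V _ => V.2.1, Set.iUnion₂_subset fun V _ => V.2.2⟩
  refine ⟨V.1, V.2.1, fun y hy => V.2.2 hy ⟨y, rfl⟩, fun z => ?_⟩
  by_contra h
  obtain ⟨V₀, hV₀, hx⟩ := Set.mem_iUnion₂.1 (ht (Set.mem_univ (redI V.1.compl z)))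
  exact hx (hmono V₀ V (fun p hp => Set.mem_biUnion hV₀ hp) ⟨z, h, rfl⟩)

end Groth.Agent.EtDepthX
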