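import Groth.Prelude.Def_EtBC2
import Groth.Prelude.Def_EtDual
import Mathlib

/-!
# Base change in degree zero of sheaves extended by the unit
-/

set_option autoImplicit false
set_option backward.isDefEq.respectTransparency false
set_option backward.isDefEq.respectTransparency.types false
set_option linter.style.haveILetI false
set_option maxHeartbeats 1000000

universe u

open CategoryTheory CategoryTheory.Limits AlgebraicGeometry

noncomputable section

namespace Groth.Agent.EtDepthX

variable {X S X' S' : Scheme.{u}} (f : X ⟶ S) (g : S' ⟶ S) (f' : X' ⟶ S') (g' : X' ⟶ X)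
  (w : g' ≫ f = f' ≫ g)

/-- base change of a sheaf is an isomorphism where both units are -/
theorem isIso_baseChange0_of_units (G : EtCoh.Ab S) [IsIso ((EtCoh.pullPushAdj f).unit.app G)]
    [IsIso ((EtCoh.pullPushAdj f').unit.app ((EtCoh.pull g).obj G))] :
    IsIso (EtCoh.baseChange0 f g f' g' w ((EtCoh.pull f).obj G)) := by
  let θ : EtCoh.push g' ⋙ EtCoh.push f ≅ EtCoh.push f' ⋙ EtCoh.push g :=
    EtCoh.pushComp f g' ≪≫ EtCoh.pushCongr w ≪≫ (EtCoh.pushComp g f').symm
  let adj1 := (EtCoh.pullPushAdj g).comp (EtCoh.pullPushAdj f')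
  let adj2 := ((EtCoh.pullPushAdj f).comp (EtCoh.pullPushAdj g')).ofNatIsoRight θ
  let c := (adj1.leftAdjointUniq adj2).app G
  have hc : (EtCoh.pullPushAdj g).unit.app G ≫ (EtCoh.push g).map
        ((EtCoh.pullPushAdj f').unit.app ((EtCoh.pull g).obj G) ≫ (EtCoh.push f').map c.hom) =
      (EtCoh.pullPushAdj f).unit.app G ≫ (EtCoh.push f).map ((EtCoh.pullPushAdj g').unit.app ((EtCoh.pull f).obj G)) ≫
        θ.hom.app ((EtCoh.pull g').obj ((EtCoh.pull f).obj G)) := by
    have h := Adjunction.homEquiv_leftAdjointUniq_hom_app adj1 adj2 G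
    rw [Adjunction.homEquiv_unit] at h
    simp only [adj1, adj2, Adjunction.ofNatIsoRight, Adjunction.comp_unit_app, Functor.comp_map, Category.assoc,
      Adjunction.mkOfHomEquiv_unit_app] at h
    simp only [c, Iso.app_hom, Functor.map_comp, Category.assoc]
    refine h.trans ?_
    simp
  have key : (EtCoh.pull g).map ((EtCoh.pullPushAdj f).unit.app G) ≫
      EtCoh.baseChange0 f g f' g' w ((EtCoh.pull f).obj G) =
      (EtCoh.pullPushAdj f').unit.app ((EtCoh.pull g).obj G) ≫ (EtCoh.push f').map c.hom := by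
    apply ((EtCoh.pullPushAdj g).homEquiv _ _).injective
    rw [Adjunction.homEquiv_naturality_left, EtCoh.baseChange0]
    refine (congrArg (_ ≫ ·) (Equiv.apply_symm_apply _ _)).trans ?_
    refine Eq.trans ?_ (Adjunction.homEquiv_unit _ _ _ _).symm
    refine Eq.trans ?_ hc.symm
    simp [θ]
  haveI : IsIso ((EtCoh.pull g).map ((EtCoh.pullPushAdj f).unit.app G) ≫
      EtCoh.baseChange0 f g f' g' w ((EtCoh.pull f).obj G)) := by rw [key]; infer_instance
  exact IsIso.of_isIso_comp_left ((EtCoh.pull g).map ((EtCoh.pullPushAdj f).unit.app G)) _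

/-- base change in degree zero -/
theorem isIso_bcQ_zero_of_units [PreservesFiniteLimits (EtCoh.pull g')] (G : EtCoh.Ab S)
    [IsIso ((EtCoh.pullPushAdj f).unit.app G)]
    [IsIso ((EtCoh.pullPushAdj f').unit.app ((EtCoh.pull g).obj G))] :
    IsIso (EtBC.bcQ f g f' g' w 0 ((EtCoh.pull f).obj G)) := by
  haveI := isIso_baseChange0_of_units f g f' g' w G
  have h := EtBC.bcQ_zero_compat f g f' g' w ((EtCoh.pull f).obj G)
  haveI : IsIso ((EtCoh.push f').toRightDerivedZero.app ((EtCoh.pull g').obj ((EtCoh.pull f).obj G))) := inferInstance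
  haveI : IsIso ((EtCoh.pull g).map ((EtCoh.push f).toRightDerivedZero.app ((EtCoh.pull f).obj G)) ≫
      EtBC.bcQ f g f' g' w 0 ((EtCoh.pull f).obj G)) := by rw [h]; infer_instance
  exact IsIso.of_isIso_comp_left ((EtCoh.pull g).map ((EtCoh.push f).toRightDerivedZero.app ((EtCoh.pull f).obj G))) _

end Groth.Agent.EtDepthX
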