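import Groth.Agent.EtDepthX.BaseChange
import Groth.Agent.EtH0Pair.Basic
import Mathlib

/-!
# Etale depth along a closed subset and at its points
-/

set_option autoImplicit false
set_option backward.isDefEq.respectTransparency false
set_option backward.isDefEq.respectTransparency.types false
set_option linter.unusedSectionVars false
set_option linter.style.haveILetI false
set_option linter.overlappingInstances false
set_option maxHeartbeats 1000000
set_option synthInstance.maxHeartbeats 400000

universe u

open CategoryTheory CategoryTheory.Limits CategoryTheory.Abelian AlgebraicGeometry Opposite IsLocalRing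

noncomputable section

namespace Groth.Agent.EtDepthX

attribute [local instance 100000] EtCoh.H._proof_1 Groth.Agent.EtMV.hext
attribute [local instance 200000] Groth.Agent.EtMV.hextAb

open EtDepth (DepthGE DepthAtGE)
open EtShriek (sectSupp)

variable {X : Scheme.{u}}

section SpecOf

variable (y : X) (R : Type u) [CommRing R] [IsLocalRing R] [Algebra (X.presheaf.stalk y) R]
  [IsLocalHom (algebraMap (X.presheaf.stalk y) R)]

theorem specOf_closed : Hens2.specOf X y R (closedPoint R) = y := by
  rw [Hens2.specOf, Scheme.Hom.comp_apply]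
  exact (congrArg (X.fromSpecStalk y) (IsLocalRing.comap_closedPoint (algebraMap (X.presheaf.stalk y) R))).trans
    Scheme.fromSpecStalk_closedPoint

theorem specOf_specializes (P : Spec (CommRingCat.of R)) : Hens2.specOf X y R P ⤳ y := by
  have h := (IsLocalRing.specializes_closedPoint P).map (Hens2.specOf X y R).continuous
  rwa [show (Hens2.specOf X y R) (closedPoint R) = y from specOf_closed y R] at h

theorem eq_closedPoint_of_specOf [_root_.Hensel.IsStrictHenselization (X.presheaf.stalk y) R]
    {P : Spec (CommRingCat.of R)} (h : Hens2.specOf X y R P = y) : P = closedPoint R := by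
  rw [Hens2.specOf, Scheme.Hom.comp_apply] at h
  have h1 := (X.fromSpecStalk y).isEmbedding.injective (h.trans Scheme.fromSpecStalk_closedPoint.symm)
  have h2 : Ideal.comap (algebraMap (X.presheaf.stalk y) R) P.asIdeal = maximalIdeal (X.presheaf.stalk y) :=
    congrArg PrimeSpectrum.asIdeal h1
  refine PrimeSpectrum.ext ((le_maximalIdeal P.2.ne_top).antisymm ?_)
  show maximalIdeal R ≤ P.asIdeal
  rw [← Hensel.strictHenselization_map_maximalIdeal (R := X.presheaf.stalk y) (S := R), ← h2]
  exact Ideal.map_comap_le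

end SpecOf

theorem mem_sectSupp_of_map {F : EtCoh.Ab X} {V W : X.Etale} (σ : EtCoh.sect F W) (φ : V ⟶ W) {v : V.left}
    (hv : v ∈ sectSupp F V (F.obj.map φ.op σ)) : φ.left v ∈ sectSupp F W σ := by
  by_contra h
  obtain ⟨W', g, ⟨w', hw'⟩, h0⟩ := (EtSect.mem_iff F σ _).1 h
  obtain ⟨P, a, b, hab, hp⟩ := EtSect.exists_pullback φ g
  obtain ⟨p, rfl⟩ := hp v w' hw'.symm
  refine (EtSect.mem_iff F _ _).2 ⟨P, a, ⟨p, rfl⟩, ?_⟩ hv
  rw [← ConcreteCategory.comp_apply, ← F.obj.map_comp, ← op_comp, hab, op_comp, F.obj.map_comp,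
    ConcreteCategory.comp_apply, h0, map_zero]

/-- a nonempty closed set has a point none of whose proper generizations lies in it -/
theorem exists_maximal_point {T : Scheme.{u}} {C : Set T} (hC : IsClosed C) {x : T} (hx : x ∈ C) :
    ∃ w ∈ C, ∀ v ∈ C, v ⤳ w → v = w := by
  obtain ⟨Z, hZi, hxZ, hmax⟩ := exists_preirreducible (s := ({(⟨x, hx⟩ : C)} : Set C)) isPreirreducible_singleton
  have hZirr : IsIrreducible Z := ⟨⟨⟨x, hx⟩, hxZ rfl⟩, hZi⟩
  have hZ' : IsClosed Z := by
    refine closure_eq_iff_isClosed.1 ?_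
    exact hmax _ hZi.closure subset_closure
  have hI : IsIrreducible (Subtype.val '' Z) := hZirr.image _ continuous_subtype_val.continuousOn
  have hIc : IsClosed (Subtype.val '' Z) := hC.isClosedMap_subtype_val Z hZ'
  obtain ⟨w, hw⟩ := QuasiSober.sober hI hIc
  have hwC : w ∈ C := by
    have : w ∈ Subtype.val '' Z := hw.mem
    obtain ⟨z, -, rfl⟩ := this
    exact z.2
  refine ⟨w, hwC, fun v hv hvw => ?_⟩
  have h1 : Z ⊆ closure ({(⟨v, hv⟩ : C)} : Set C) := by
    intro z hz
    rw [closure_subtype]
    have h2 : (z : T) ∈ closure ({w} : Set T) := by rw [hw.def]; exact ⟨z, hz, rfl⟩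
    rw [Set.image_singleton]
    exact (closure_minimal (Set.singleton_subset_iff.2 hvw.mem_closure) isClosed_closure) h2
  have h3 := hmax _ isPreirreducible_singleton.closure h1
  have h4 : v ∈ Subtype.val '' Z := ⟨⟨v, hv⟩, h3 ▸ subset_closure rfl, rfl⟩
  have h5 : w ⤳ v := hw.specializes h4
  exact (hvw.antisymm h5).eq

variable {U : Scheme.{u}} (j : U ⟶ X) [IsOpenImmersion j]

/-- no sections with supports as soon as there are none at the points -/
theorem isZero_secSupp_of_points (F : EtCoh.Ab X)
    (h : ∀ y : X, y ∉ Set.range j.base → DepthAtGE X F y 1) : IsZero ((EtDual.secSupp j).obj F) := by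
  suffices hm : ∀ (W : X.Etale) (s : EtCoh.sect F W), (EtDual.unitApp j F).hom.app (op W) s = 0 → s = 0 by
    haveI : Mono ((sheafToPresheaf _ _).map (EtDual.unitApp j F)) := by
      rw [NatTrans.mono_iff_mono_app]
      exact fun W => (AddCommGrpCat.mono_iff_injective _).2 ((injective_iff_map_eq_zero _).2 (hm W.unop))
    haveI : Mono (EtDual.unitApp j F) := (sheafToPresheaf _ _).mono_of_mono_map ‹_›
    exact isZero_kernel_of_mono (EtDual.unitApp j F)
  intro W s hs
  have hsupp := (EtPushStalk.unit_eq_zero_iff j F W s).1 hs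
  by_contra hs0
  obtain ⟨x, hx⟩ : ∃ x, x ∈ sectSupp F W s := by
    by_contra hne
    push Not at hne
    exact hs0 (EtSect.eq_zero_of_cover F s fun v => (EtSect.mem_iff F s v).1 (hne v))
  obtain ⟨w, hw, hmax⟩ := exists_maximal_point (EtSect.isClosed_sectSupp F s) hx
  let y : X := W.hom w
  have hy : y ∉ Set.range j.base := by
    rintro ⟨u, hu⟩
    obtain ⟨p, hp, -⟩ := Scheme.Pullback.exists_preimage_pullback (f := W.hom) (g := j) w u hu.symm
    exact hsupp ⟨p, hp⟩ hw
  obtain ⟨R, _, _, _, _, hR⟩ := EtBCQ.exists_sh (X.presheaf.stalk y)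
  haveI := hR
  haveI := hR.henselian
  haveI : IsSepClosed (ResidueField R) := hR.isSepClosure.1
  let r := Hens2.specOf X y R
  let T := Spec (CommRingCat.of R)
  haveI : Etale W.hom := W.prop
  obtain ⟨p, hp1, hp2⟩ := Scheme.Pullback.exists_preimage_pullback (f := W.hom) (g := r) w (closedPoint R)
    (specOf_closed y R).symm
  have hpt : (EtHens.pt R) (default : Spec (CommRingCat.of (ResidueField R))) = closedPoint R := by
    rw [Subsingleton.elim (α := Spec (CommRingCat.of (ResidueField R))) default (closedPoint (ResidueField R))]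
    exact IsLocalRing.comap_closedPoint (residue R)
  obtain ⟨z, hz⟩ := EtPBC.exists_lift_at hpt (V := (EtCoh.bc r).obj W) p hp2
  obtain ⟨σ, hσ, hσz⟩ := EtHens.exists_section R ((EtCoh.bc r).obj W) z
  let δ : EtCoh.top T ⟶ (EtCoh.bc r).obj W := MorphismProperty.Over.homMk σ hσ
  let G := (EtCoh.pull r).obj F
  let t : EtCoh.sect G (EtCoh.top T) := G.obj.map δ.op (EtH0Pair.unitSec r F W s)
  have hσcl : σ (closedPoint R) = p := by
    rw [← hpt, ← Scheme.Hom.comp_apply, hσz]
    exact hz
  have hgo : ∀ q : T, pullback.fst W.hom r (σ q) ∈ sectSupp F W s → q = closedPoint R := by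
    intro q hq
    have hsp : pullback.fst W.hom r (σ q) ⤳ w := by
      have := ((IsLocalRing.specializes_closedPoint q).map σ.continuous).map (pullback.fst W.hom r).continuous
      rwa [show σ (closedPoint R) = p from hσcl, hp1] at this
    refine eq_closedPoint_of_specOf y R ?_
    have hc : W.hom (pullback.fst W.hom r (σ q)) = r q := by
      rw [← Scheme.Hom.comp_apply, pullback.condition, Scheme.Hom.comp_apply]
      exact congrArg r (congrArg (fun m : T ⟶ T => m q) hσ)
    exact hc.symm.trans (congrArg W.hom (hmax _ hq hsp))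
  have ht : (EtDual.unitApp (FEt.puncturedSpec R).ι G).hom.app (op (EtCoh.top T)) t = 0 := by
    refine (EtPushStalk.unit_eq_zero_iff _ G (EtCoh.top T) t).2 ?_
    rintro _ ⟨u, rfl⟩ hu
    have h1 := (EtPushStalk.mem_sectSupp_unit_iff r F W s _).1 (mem_sectSupp_of_map _ δ hu)
    exact (range_puncturedSpec R _).1 ⟨_, (EtH0Pair.fst_top _ u).symm⟩ (hgo _ h1)
  have h0 := isZero_secSupp_of_depthGE _ le_rfl (h y hy R)
  obtain ⟨t', ht'⟩ := EtFLC.exists_kernel_sect (EtDual.unitApp (FEt.puncturedSpec R).ι G) t ht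
  haveI := AddCommGrpCat.subsingleton_of_isZero ((EtMV.Γ₀ T).map_isZero h0)
  rw [Subsingleton.elim (α := (EtMV.Γ₀ T).obj ((EtDual.secSupp (FEt.puncturedSpec R).ι).obj G)) t' 0] at ht'
  have ht0 : t = 0 := ht'.symm.trans (map_zero _)
  have h2 := (EtSect.map_eq_zero_iff G (EtH0Pair.unitSec r F W s) δ).1 ht0 ⟨closedPoint R, rfl⟩
  refine h2 ((EtPushStalk.mem_sectSupp_unit_iff r F W s _).2 ?_)
  show pullback.fst W.hom r (σ (closedPoint R)) ∈ sectSupp F W s
  rw [hσcl, hp1]
  exact hw

/-- direct images from the open have large depth at the points of the complement -/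
theorem depthAtGE_push [QuasiCompact j] (M : EtCoh.Ab U) (y : X) (hy : y ∉ Set.range j.base) (n : ℕ)
    (hR : ∀ q : ℕ, 1 ≤ q → q + 1 < n → IsZero ((EtCoh.Rpush j q).obj M)) :
    DepthAtGE X ((EtCoh.push j).obj M) y n := by
  intro R _ _ _ _ _
  let r := Hens2.specOf X y R
  haveI : WeaklyEtale r := EtAcycX.weaklyEtale_specOf y R
  haveI := EtCohDesc.pull_preservesFiniteLimits (pullback.fst j r)
  refine EtMV.depthGE_of_le (pullback.snd j r) (FEt.puncturedSpec R).ι ?_ n _
    (depthGE_pull_push_weaklyEtale r j (pullback.snd j r) (pullback.fst j r) (IsPullback.of_hasPullback j r) M n hR)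
  rintro _ ⟨p, rfl⟩
  refine (range_puncturedSpec R _).2 fun hp => hy ⟨pullback.fst j r p, ?_⟩
  show j (pullback.fst j r p) = y
  rw [← Scheme.Hom.comp_apply, pullback.condition, Scheme.Hom.comp_apply, hp, specOf_closed]

/-- **depth along a closed subset is tested at its points** -/
theorem depthGE_iff_depthAtGE [QuasiCompact j] (n : ℕ) : ∀ F : EtCoh.Ab X,
    DepthGE j F n ↔ ∀ y : X, y ∉ Set.range j.base → DepthAtGE X F y n := by
  induction n with
  | zero => exact fun F => ⟨fun _ y _ R _ _ _ _ _ => depthGE_zero _ _, fun _ => depthGE_zero j F⟩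
  | succ n ih =>
    intro F
    suffices H : IsZero ((EtDual.secSupp j).obj F) →
        (DepthGE j F (n + 1) ↔ ∀ y : X, y ∉ Set.range j.base → DepthAtGE X F y (n + 1)) by
      refine ⟨fun h => (H (isZero_secSupp_of_depthGE j (by omega) h)).1 h, fun h => ?_⟩
      exact (H (isZero_secSupp_of_points j F fun y hy R _ _ _ _ _ => depthGE_mono_n _ (by omega) (h y hy R))).2 h
    intro h0
    haveI : Mono (EtDual.unitApp j F) := Preadditive.mono_of_kernel_zero (h0.eq_of_src _ _)
    let J := Injective.under ((EtCoh.pull j).obj F)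
    let I := (EtCoh.push j).obj J
    let f : F ⟶ I := EtDual.unitApp j F ≫ (EtCoh.push j).map (Injective.ι _)
    let S : ShortComplex (EtCoh.Ab X) := ShortComplex.mk f (cokernel.π f) (cokernel.condition f)
    have hS : S.ShortExact :=
      { exact := ShortComplex.exact_of_g_is_cokernel _ (cokernelIsCokernel f) }
    have hR : ∀ m : ℕ, ∀ q : ℕ, 1 ≤ q → q + 1 < m → IsZero ((EtCoh.Rpush j q).obj J) := fun m q hq _ => by
      obtain ⟨q, rfl⟩ : ∃ k, q = k + 1 := ⟨q - 1, by omega⟩
      exact Functor.isZero_rightDerived_obj_injective_succ _ q _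
    constructor
    · intro h y hy R _ _ _ _ _
      haveI := EtCohDesc.pull_preservesFiniteLimits (Hens2.specOf X y R)
      exact depthGE_left _ (hS.map_of_exact (EtCoh.pull (Hens2.specOf X y R)))
        (depthAtGE_push j J y hy (n + 1) (hR _) R)
        ((ih S.X₃).1 (depthGE_right j hS (depthGE_push j J n (hR n)) h) y hy R)
    · intro h
      refine depthGE_left j hS (depthGE_push j J (n + 1) (hR _)) ((ih S.X₃).2 fun y hy R _ _ _ _ _ => ?_)
      haveI := EtCohDesc.pull_preservesFiniteLimits (Hens2.specOf X y R)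
      exact depthGE_right _ (hS.map_of_exact (EtCoh.pull (Hens2.specOf X y R)))
        (depthAtGE_push j J y hy n (hR _) R) (h y hy R)

end Groth.Agent.EtDepthX
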