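import Groth.Agent.EtDepthX.SemiPurBase
import Groth.Agent.SmLocalST.SmoothField
import Groth.Agent.S0558
import Groth.Agent.CInt.Codim
import Groth.Agent.DimFormula.Dims
import Groth.Agent.Hensel.HenselizationMore
import Mathlib

/-!
# Semi-purity for smooth morphisms
-/

set_option autoImplicit false
set_option backward.isDefEq.respectTransparency false
set_option backward.isDefEq.respectTransparency.types false
set_option linter.unusedSectionVars false
set_option linter.style.haveILetI false
set_option linter.overlappingInstances false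
set_option maxHeartbeats 1000000
set_option synthInstance.maxHeartbeats 400000

universe u

open CategoryTheory CategoryTheory.Limits CategoryTheory.Abelian AlgebraicGeometry Opposite IsLocalRing

noncomputable section

namespace Groth.Agent.EtDepthX

attribute [local instance 100000] EtCoh.H._proof_1 Groth.Agent.EtMV.hext
attribute [local instance 200000] Groth.Agent.EtMV.hextAb

open EtDepth (DepthGE DepthAtGE)
open EtBCQ (SH mkSH)

/-- depth of the constant sheaf at least twice the dimension of the local rings -/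
def SP (ℓ : ℕ) (X : Scheme.{u}) : Prop :=
  ∀ (x : X) (d : ℕ), (d : WithBot ℕ∞) ≤ ringKrullDim (X.presheaf.stalk x) →
    DepthAtGE X (EtCoh.const X (ZMod ℓ)) x (2 * d)

theorem depthAtGE_const_iff {X : Scheme.{u}} (x : X) (ℓ n : ℕ) :
    DepthAtGE X (EtCoh.const X (ZMod ℓ)) x n ↔
      ∀ (R : Type u) [CommRing R] [IsLocalRing R] [Algebra (X.presheaf.stalk x) R]
        [IsLocalHom (algebraMap (X.presheaf.stalk x) R)] [_root_.Hensel.IsStrictHenselization (X.presheaf.stalk x) R],
        DepthGE (FEt.puncturedSpec R).ι (EtCoh.const (Spec (CommRingCat.of R)) (ZMod ℓ)) n :=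
  ⟨fun h R _ _ _ _ _ => depthGE_of_iso _ (EtCons.pullConstM (Hens2.specOf X x R) (ZMod ℓ)) (h R),
    fun h R _ _ _ _ _ => depthGE_of_iso _ (EtCons.pullConstM (Hens2.specOf X x R) (ZMod ℓ)).symm (h R)⟩

theorem depthAtGE_of_iso {X : Scheme.{u}} {F G : EtCoh.Ab X} (e : F ≅ G) {x : X} {n : ℕ}
    (h : DepthAtGE X F x n) : DepthAtGE X G x n := fun R _ _ _ _ _ =>
  depthGE_of_iso _ ((EtCoh.pull (Hens2.specOf X x R)).mapIso e) (h R)

theorem depthAtGE_mono {X : Scheme.{u}} {F : EtCoh.Ab X} {x : X} {n m : ℕ} (hmn : m ≤ n)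
    (h : DepthAtGE X F x n) : DepthAtGE X F x m := fun R _ _ _ _ _ => depthGE_mono_n _ hmn (h R)

theorem isLTorsion_const {X : Scheme.{u}} {ℓ : ℕ} (hℓ : ℓ.Prime) :
    EtDepth.IsLTorsion ℓ (EtCoh.const X (ZMod ℓ)) := by
  refine (isLTorsion_iff hℓ _).2 fun V s x => ?_
  obtain ⟨V', g, m, hv, hm, hs⟩ := EtAcycX.isLTorsion_const_zmod (W := X) hℓ.pos V s x
  exact ⟨V', g, m, hv, ⟨hm.1, fun p hp hd =>
    Set.mem_singleton_iff.2 ((Nat.prime_dvd_prime_iff_eq hp hℓ).1 (hm.2 p hp hd).2)⟩, hs⟩

theorem natCast_ne_zero_of_isUnit {X : Scheme.{u}} {n : ℕ} (hn : IsUnit (n : Γ(X, ⊤))) (x : X) :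
    (n : X.residueField x) ≠ 0 := by
  have h := hn.map (X.evaluation ⊤ x trivial).hom
  rw [map_natCast] at h
  exact h.ne_zero

/-- weakly étale schemes inherit semi-purity -/
theorem sp_of_weaklyEtale {X' X : Scheme.{u}} (e : X' ⟶ X) [WeaklyEtale e] {ℓ : ℕ} (h : SP ℓ X) : SP ℓ X' := by
  intro x d hd
  refine (depthAtGE_const_iff x ℓ _).2 fun R _ _ _ _ _ => ?_
  obtain ⟨aQ, lQ, sQ, -⟩ := EtAcycX.exists_push_SH e ({ R := R } : SH X' x)
  letI := aQ
  haveI := lQ
  haveI := sQ
  refine (depthAtGE_const_iff (e x) ℓ _).1 (h (e x) d (hd.trans_eq ?_)) R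
  exact (Hensel.strictHenselization_ringKrullDim (X'.presheaf.stalk x) R).symm.trans
    (Hensel.strictHenselization_ringKrullDim (X.presheaf.stalk (e x)) R)

theorem sp_of_dim_zero {X : Scheme.{u}} (ℓ : ℕ) (h : ∀ x : X, ringKrullDim (X.presheaf.stalk x) ≤ 0) : SP ℓ X :=
  fun x d hd => by
    obtain rfl : d = 0 := by
      have h1 := hd.trans (h x)
      exact_mod_cast Nat.le_zero.1 (by exact_mod_cast h1)
    exact fun R _ _ _ _ _ => depthGE_zero _ _

/-- the fibre of a smooth map at a point of codimension one in its fibre -/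
theorem depthAtGE_two_of_regular {X : Scheme.{u}} (x : X) (hreg : IsRegularLocalRing (X.presheaf.stalk x))
    (hdim : 1 ≤ ringKrullDim (X.presheaf.stalk x)) (ℓ : ℕ) (hℓ : 0 < ℓ) :
    DepthAtGE X (EtCoh.const X (ZMod ℓ)) x 2 := by
  refine (depthAtGE_const_iff x ℓ _).2 fun R _ _ _ _ hR => ?_
  haveI := hR.henselian
  haveI : IsSepClosed (ResidueField R) := hR.isSepClosure.1
  haveI := hreg
  haveI : IsRegularLocalRing R :=
    (Hensel.strictHenselization_isRegularLocalRing_iff (R := X.presheaf.stalk x) (S := R)).2 hreg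
  haveI : IsDomain R := S0558.result R
  refine depthGE_two_of_isDomain R (fun hf => ?_) ℓ hℓ
  have h1 : ringKrullDim R = ringKrullDim (X.presheaf.stalk x) :=
    Hensel.strictHenselization_ringKrullDim (X.presheaf.stalk x) R
  rw [ringKrullDim_eq_zero_of_isField hf] at h1
  rw [← h1] at hdim
  exact absurd hdim (by decide)

/-- one relative dimension -/
theorem sp_step {X S : Scheme.{u}} (f : X ⟶ S) [Smooth f] [IsLocallyNoetherian X] [IsLocallyNoetherian S]
    (hdim : ∀ x : X, ringKrullDim (_root_.CInt.fiberStalk f x) ≤ 1) {ℓ : ℕ} (hℓ : ℓ.Prime)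
    (hn : ∀ x : X, (ℓ : X.residueField x) ≠ 0) (h : SP ℓ S) : SP ℓ X := by
  intro x d hd
  obtain ⟨a, ha, -⟩ := DimFormula.exists_ringKrullDim_stalk (f x)
  haveI : IsLocallyNoetherian (f.fiber (f x)) :=
    haveI : LocallyOfFiniteType (f.fiberToSpecResidueField (f x)) :=
      MorphismProperty.pullback_snd _ _ inferInstance
    LocallyOfFiniteType.isLocallyNoetherian (f.fiberToSpecResidueField (f x))
  obtain ⟨e, he, -⟩ := DimFormula.exists_ringKrullDim_stalk (f.asFiber x)
  have he1 : e ≤ 1 := by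
    have := hdim x
    erw [he] at this
    exact_mod_cast this
  rw [CInt.ringKrullDim_stalk_eq_add f x, ha] at hd
  erw [he] at hd
  have hde : d ≤ a + e := by exact_mod_cast hd
  refine depthAtGE_of_iso (EtCons.pullConstM f (ZMod ℓ)) (depthAtGE_pull f x inferInstance hℓ _
    (isLTorsion_const hℓ) (isLocAcyclicLE_smooth f hℓ hn (2 * d)) (h (f x) a ha.ge) (q := 2 * e)
    (fun x' hx' => ?_) (2 * d) (by omega) (by omega))
  obtain rfl : x' = f.asFiber x :=
    (f.fiberι (f x)).isEmbedding.injective (hx'.trans (f.fiberι_asFiber x).symm)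
  obtain rfl | rfl : e = 0 ∨ e = 1 := by omega
  · exact fun R _ _ _ _ _ => depthGE_zero _ _
  · haveI : Smooth (f.fiberToSpecResidueField (f x)) := MorphismProperty.pullback_snd _ _ inferInstance
    exact depthAtGE_two_of_regular _
      (SmLocalST.isRegularLocalRing_stalk_of_smooth_field (f.fiberToSpecResidueField (f x)) _)
      (le_of_eq (by erw [he]; norm_cast)) ℓ hℓ.pos

/-- the fibres of the affine line have dimension at most one -/
theorem ringKrullDim_fiberStalk_polynomial (R : Type u) [CommRing R]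
    (x : Spec (CommRingCat.of (Polynomial R))) :
    ringKrullDim (_root_.CInt.fiberStalk (Spec.map (CommRingCat.ofHom (Polynomial.C (R := R)))) x) ≤ 1 := by
  let f := Spec.map (CommRingCat.ofHom (Polynomial.C (R := R)))
  refine (DimFormula.ringKrullDim_fiber_stalk_le_iff f x (k := 1)).2 fun n c hc hf hlast => ?_
  by_contra hn
  let p : PrimeSpectrum R := f x
  have hk : Order.krullDim (PrimeSpectrum.comap (algebraMap R (Polynomial R)) ⁻¹' {p}) ≤ 1 := by
    rw [Order.krullDim_eq_of_orderIso (PrimeSpectrum.preimageOrderIsoFiber R (Polynomial R) p), ← ringKrullDim,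
      ← ringKrullDim_eq_of_ringEquiv (polyEquivTensor R (p.asIdeal.ResidueField)).toRingEquiv,
      show (1 : WithBot ℕ∞) = ((1 : ℕ) : WithBot ℕ∞) from rfl, ← Ring.krullDimLE_iff]
    infer_instance
  let s : LTSeries (PrimeSpectrum.comap (algebraMap R (Polynomial R)) ⁻¹' {p}) :=
    { length := n
      toFun := fun i => ⟨c i, hf i⟩
      step := fun i => by
        rw [Set.mem_setOf_eq]
        refine Subtype.coe_lt_coe.1 ?_
        exact lt_of_le_of_ne ((PrimeSpectrum.le_iff_specializes _ _).2 (hc i).1) (hc i).2 }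
  have h1 := (Order.LTSeries.length_le_krullDim s).trans hk
  exact hn (by exact_mod_cast h1)

theorem sp_mvPolynomial (R : Type u) [CommRing R] [IsNoetherianRing R] {ℓ : ℕ} (hℓ : ℓ.Prime) (hn : IsUnit (ℓ : R))
    (h : SP ℓ (Spec (CommRingCat.of R))) : ∀ N : ℕ, SP ℓ (Spec (CommRingCat.of (MvPolynomial (Fin N) R))) := by
  intro N
  induction N with
  | zero =>
    let e : CommRingCat.of (MvPolynomial (Fin 0) R) ≅ CommRingCat.of R :=
      (MvPolynomial.isEmptyAlgEquiv R (Fin 0)).toRingEquiv.toCommRingCatIso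
    exact sp_of_weaklyEtale (Spec.map e.inv) h
  | succ N ih =>
    let A := MvPolynomial (Fin N) R
    let e : CommRingCat.of (MvPolynomial (Fin (N + 1)) R) ≅ CommRingCat.of (Polynomial A) :=
      (MvPolynomial.finSuccEquiv R N).toRingEquiv.toCommRingCatIso
    haveI : Smooth (Spec.map (CommRingCat.ofHom (Polynomial.C (R := A)))) := by
      rw [HasRingHomProperty.Spec_iff (P := @Smooth)]
      exact RingHom.smooth_algebraMap.2 (⟨inferInstance, inferInstance⟩ : Algebra.Smooth A (Polynomial A))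
    refine sp_of_weaklyEtale (Spec.map e.inv) (sp_step (Spec.map (CommRingCat.ofHom (Polynomial.C (R := A))))
      (ringKrullDim_fiberStalk_polynomial A) hℓ (fun x => ?_) ih)
    refine natCast_ne_zero_of_isUnit ?_ x
    have h2 := ((hn.map (algebraMap R A)).map (Polynomial.C (R := A))).map
      (Scheme.ΓSpecIso (CommRingCat.of (Polynomial A))).inv.hom
    simpa using h2

end Groth.Agent.EtDepthX
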