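import Groth.Agent.EtDepthX.Transfer
import Groth.Agent.EtAcycX.ConstHens
import Groth.Agent.EtAcycX.PointAcyc
import Groth.Agent.S0712
import Mathlib

/-!
# Depth two at the closed point of a strictly henselian domain; smooth maps are locally acyclic
-/

set_option autoImplicit false
set_option backward.isDefEq.respectTransparency false
set_option backward.isDefEq.respectTransparency.types false
set_option linter.unusedSectionVars false
set_option linter.style.haveILetI false
set_option linter.overlappingInstances false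
set_option maxHeartbeats 1000000
set_option synthInstance.maxHeartbeats 400000

universe u

open CategoryTheory CategoryTheory.Limits CategoryTheory.Abelian AlgebraicGeometry Opposite IsLocalRing
open scoped TensorProduct

noncomputable section

namespace Groth.Agent.EtDepthX

attribute [local instance 100000] EtCoh.H._proof_1 Groth.Agent.EtMV.hext
attribute [local instance 200000] Groth.Agent.EtMV.hextAb

open EtDepth (DepthGE)
open EtAcycX (constB)

variable {W : Scheme.{u}}

theorem const_map_injective [Nonempty W] (A M : AddCommGrpCat.{u + 1}) :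
    Function.Injective fun g : A ⟶ M => (constantSheaf W.smallEtaleTopology AddCommGrpCat.{u + 1}).map g := by
  obtain ⟨Ω, _, _, ξ, -⟩ := EtPBC.exists_geomPt (Classical.arbitrary W)
  haveI : IsSepClosed (ResidueField Ω) :=
    Hensel.isSepClosed_of_ringEquiv (RingEquiv.ofBijective (residue Ω) ⟨RingHom.injective _, residue_surjective⟩)
  haveI := EtCohDesc.pull_preservesFiniteLimits ξ
  intro g g' h
  refine (EtAcycX.const_map_bijective (EtAcycX.constTop_henselian Ω) A M).1 ?_
  have h1 := congrArg (EtCoh.pull ξ).map h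
  have hn := (EtCore.pullConstIso ξ).hom.naturality g
  have hn' := (EtCore.pullConstIso ξ).hom.naturality g'
  refine (cancel_epi ((EtCore.pullConstIso ξ).hom.app A)).1 ?_
  rw [← hn, ← hn']
  exact congrArg (· ≫ (EtCore.pullConstIso ξ).hom.app M) h1

/-- global sections of finite constant sheaves between connected schemes -/
theorem bijective_Hpull_zero_const (T : Type u) [CommRing T] [HenselianLocalRing T] [IsSepClosed (ResidueField T)]
    (f : W ⟶ Spec (CommRingCat.of T)) [PreservesFiniteLimits (EtCoh.pull f)] [ConnectedSpace W]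
    (ℓ : ℕ) (hℓ : 0 < ℓ) :
    Function.Bijective (EtCore.Hpull f (EtCoh.const (Spec (CommRingCat.of T)) (ZMod ℓ)) 0) := by
  haveI : NeZero ℓ := ⟨hℓ.ne'⟩
  haveI : Nonempty W := ConnectedSpace.toNonempty
  let M := AddCommGrpCat.of (ULift.{u + 1} (ZMod ℓ))
  let A := AddCommGrpCat.of (ULift.{u + 1} ℤ)
  refine (EtAcycX.bijective_Hpull_constB_iff f (EtAcycX.constTop_henselian T) M).2 ?_
  have hA : Nat.card (A ⟶ M) = ℓ := by
    let e : (A ⟶ M) ≃ M :=
      { toFun := fun f => f ⟨1⟩
        invFun := fun a => AddCommGrpCat.ofHom ((zmultiplesHom M a).comp (AddEquiv.ulift.toAddMonoidHom))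
        left_inv := fun f => AddCommGrpCat.hom_ext (AddMonoidHom.ext fun n => by
          obtain ⟨n⟩ := n
          show n • f ⟨1⟩ = f ⟨n⟩
          rw [← map_zsmul]
          exact congrArg f (ULift.ext _ _ (mul_one n)))
        right_inv := fun a => by exact one_zsmul a }
    rw [Nat.card_congr e]
    show Nat.card (ULift.{u + 1} (ZMod ℓ)) = ℓ
    rw [Nat.card_ulift, Nat.card_zmod]
  have hB : Nat.card (constB W A ⟶ constB W M) = ℓ := by
    refine (Nat.card_congr (Ext.homEquiv₀ (X := constB W A) (Y := constB W M)).symm).trans ?_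
    exact ((EtAcycX.card_H_zero (EtCoh.const W (ZMod ℓ))).trans EtAcycX.card_sect_const).trans (Nat.card_zmod ℓ)
  haveI : Finite (constB W A ⟶ constB W M) := Nat.finite_of_card_ne_zero (by rw [hB]; exact hℓ.ne')
  exact (Nat.bijective_iff_injective_and_card _).2 ⟨const_map_injective A M, hA.trans hB.symm⟩

/-- **depth two at the closed point of a strictly henselian domain which is not a field** -/
theorem depthGE_two_of_isDomain (R : Type u) [CommRing R] [HenselianLocalRing R] [IsSepClosed (ResidueField R)]
    [IsDomain R] (hR : ¬ IsField R) (ℓ : ℕ) (hℓ : 0 < ℓ) :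
    DepthGE (FEt.puncturedSpec R).ι (EtCoh.const (Spec (CommRingCat.of R)) (ZMod ℓ)) 2 := by
  haveI := EtCohDesc.pull_preservesFiniteLimits (FEt.puncturedSpec R).ι
  haveI : IsIntegral (Spec (CommRingCat.of R)) := inferInstance
  have hne : (genericPoint (Spec (CommRingCat.of R)) : Spec (CommRingCat.of R)) ≠ closedPoint R := fun h => hR (by
    refine IsLocalRing.isField_iff_maximalIdeal_eq.2 ?_
    have h1 : (genericPoint (Spec (CommRingCat.of R)) : Spec (CommRingCat.of R)).asIdeal = ⊥ :=
      congrArg PrimeSpectrum.asIdeal (genericPoint_eq_bot_of_affine (CommRingCat.of R))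
    rw [h] at h1
    exact h1)
  have hirr : IsIrreducible ((FEt.puncturedSpec R : (Spec (CommRingCat.of R)).Opens) : Set (Spec (CommRingCat.of R))) := by
    refine ⟨⟨genericPoint (Spec (CommRingCat.of R)), ?_⟩,
      IsPreirreducible.open_subset PreirreducibleSpace.isPreirreducible_univ (FEt.puncturedSpec R).2
        (Set.subset_univ _)⟩
    rw [← Scheme.Opens.range_ι]
    exact (range_puncturedSpec R _).2 hne
  haveI : ConnectedSpace (FEt.puncturedSpec R).toScheme :=
    Subtype.connectedSpace hirr.isConnected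
  refine (depthGE_punctured_iff _ 2).2 ⟨fun p hp => ?_, fun p hp => ?_⟩
  · obtain rfl : p = 0 := by omega
    exact bijective_Hpull_zero_const R _ ℓ hℓ
  · obtain rfl : p = 1 := by omega
    intro a b _
    exact @Subsingleton.elim _ (EtAcycX.subsingleton_H_henselian R _ 0) a b

/-- smooth morphisms are locally acyclic for invertible primes -/
theorem isLocAcyclicLE_smooth {X S : Scheme.{u}} (f : X ⟶ S) [Smooth f] {ℓ : ℕ} (hℓ : ℓ.Prime)
    (hn : ∀ x : X, (ℓ : X.residueField x) ≠ 0) (m : ℕ) : EtDepth.IsLocAcyclicLE f ℓ m := by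
  intro x RS RX _ _ _ _ _ _ _ _ _ hX _ _ hc Ω _ _ _ _ q _
  haveI := hX.henselian
  haveI : IsSepClosed (ResidueField RX) := hX.isSepClosure.1
  obtain ⟨h1, h2⟩ := S0712.result f x RS RX hc Ω ℓ (hn x) q
  cases q with
  | zero =>
    haveI := (EtAcycX.nonempty_connected_of_H_zero hℓ.one_lt h2).2
    exact bijective_Hpull_zero_const RX _ ℓ hℓ.pos
  | succ q =>
    let a := Spec.map (CommRingCat.ofHom (algebraMap RX (RX ⊗[RS] Ω)))
    haveI : Subsingleton ((EtCoh.HF (Spec (CommRingCat.of (RX ⊗[RS] Ω))) (q + 1)).obj (EtCoh.const _ (ZMod ℓ))) :=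
      h1 q.succ_pos
    haveI hs : Subsingleton (EtCoh.H (Spec (CommRingCat.of (RX ⊗[RS] Ω)))
        ((EtCoh.pull a).obj (EtCoh.const (Spec (CommRingCat.of RX)) (ZMod ℓ))) (q + 1)) :=
      ((EtCoh.HF _ (q + 1)).mapIso (EtCons.pullConstM a (ZMod ℓ))).addCommGroupIsoToAddEquiv.toEquiv.subsingleton
    exact ⟨fun a b _ => @Subsingleton.elim _ (EtAcycX.subsingleton_H_henselian RX _ q) a b,
      fun y => ⟨0, @Subsingleton.elim _ hs _ _⟩⟩

end Groth.Agent.EtDepthX
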