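import Groth.Agent.EtDepthX.SemiPurExact
import Groth.Agent.EtPBC.HensDvrPos
import Groth.Agent.EtPBC.HensDvrLower
import Groth.Agent.EtPBC.HensDvrStalk
import Groth.Agent.AffDiv.Point
import Mathlib

/-!
# Semi-purity is sharp
-/

set_option autoImplicit false
set_option backward.isDefEq.respectTransparency false
set_option backward.isDefEq.respectTransparency.types false
set_option linter.unusedSectionVars false
set_option linter.style.haveILetI false
set_option linter.overlappingInstances false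
set_option maxHeartbeats 1000000
set_option synthInstance.maxHeartbeats 400000

universe u

open CategoryTheory CategoryTheory.Limits CategoryTheory.Abelian AlgebraicGeometry Opposite IsLocalRing

noncomputable section

namespace Groth.Agent.EtDepthX

attribute [local instance 100000] EtCoh.H._proof_1 Groth.Agent.EtMV.hext
attribute [local instance 200000] Groth.Agent.EtMV.hextAb

open EtDepth (DepthGE DepthAtGE)
open EtBCQ (SH mkSH)

section Local

variable (R : Type u) [CommRing R] [HenselianLocalRing R] [IsSepClosed (ResidueField R)] {ℓ : ℕ}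

/-- zero dimensional rings have depth zero -/
theorem not_depthGE_one_of_dim_zero (hℓ : 1 < ℓ) (h : ringKrullDim R ≤ 0) :
    ¬ DepthGE (FEt.puncturedSpec R).ι (EtCoh.const (Spec (CommRingCat.of R)) (ZMod ℓ)) 1 := by
  haveI := EtCohDesc.pull_preservesFiniteLimits (FEt.puncturedSpec R).ι
  intro hd
  have hinj := ((depthGE_punctured_iff _ 1).1 hd).2 0 rfl
  haveI : IsEmpty (FEt.puncturedSpec R).toScheme := ⟨fun P => (range_puncturedSpec R _).1 ⟨P, rfl⟩ (by
    haveI : Ring.KrullDimLE 0 R := Ring.krullDimLE_iff.2 (by exact_mod_cast h)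
    exact Subsingleton.elim (α := PrimeSpectrum R) _ _)⟩
  let G := (EtCoh.pull (FEt.puncturedSpec R).ι).obj (EtCoh.const (Spec (CommRingCat.of R)) (ZMod ℓ))
  haveI : Subsingleton (EtCoh.sect G (EtCoh.top (FEt.puncturedSpec R).toScheme)) :=
    EtStalk.subsingleton_of_isEmpty G (EtCoh.top _) ‹IsEmpty _›
  haveI : Finite (EtCoh.H (FEt.puncturedSpec R).toScheme G 0) := Nat.finite_of_card_ne_zero (by
    rw [EtAcycX.card_H_zero, Nat.card_of_subsingleton (0 : EtCoh.sect G (EtCoh.top _))]; exact one_ne_zero)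
  have h1 := Nat.card_le_card_of_injective _ hinj
  rw [EtAcycX.card_H_zero_henselian R, EtAcycX.card_stalk_const, Nat.card_zmod, EtAcycX.card_H_zero,
    Nat.card_of_subsingleton (0 : EtCoh.sect G (EtCoh.top _))] at h1
  omega

/-- strictly henselian discrete valuation rings have depth exactly two -/
theorem not_depthGE_three_of_dvr [IsDomain R] [IsDiscreteValuationRing R] (hℓ : ℓ.Prime) (hu : IsUnit (ℓ : R)) :
    ¬ DepthGE (FEt.puncturedSpec R).ι (EtCoh.const (Spec (CommRingCat.of R)) (ZMod ℓ)) 3 := by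
  haveI := Fact.mk hℓ
  haveI := EtCohDesc.pull_preservesFiniteLimits (FEt.puncturedSpec R).ι
  intro hd
  have hb := ((depthGE_punctured_iff _ 3).1 hd).1 1 (by omega)
  let K := FractionRing R
  let e : Spec (CommRingCat.of K) ≅ (FEt.puncturedSpec R).toScheme :=
    IsOpenImmersion.isoOfRangeEq (EtPBC.genPt R K) (FEt.puncturedSpec R).ι (Set.ext fun P => by
      rw [range_puncturedSpec]
      refine ⟨fun ⟨z, hz⟩ hP => ?_, EtPBC.mem_range_genPt R K⟩
      have h1 : Ideal.comap (algebraMap R K) (z : PrimeSpectrum K).asIdeal = maximalIdeal R :=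
        congrArg PrimeSpectrum.asIdeal (hz.trans hP)
      rw [(Ideal.eq_bot_or_top (z : PrimeSpectrum K).asIdeal).resolve_right (z : PrimeSpectrum K).isPrime.ne_top,
        Ideal.comap_bot_of_injective _ (IsFractionRing.injective R K)] at h1
      exact IsDiscreteValuationRing.not_isField R (IsLocalRing.isField_iff_maximalIdeal_eq.2 h1.symm))
  haveI := EtCohDesc.pull_preservesFiniteLimits e.hom
  let C := EtCoh.const (Spec (CommRingCat.of R)) (ZMod ℓ)
  let G := (EtCoh.pull (FEt.puncturedSpec R).ι).obj C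
  haveI : Subsingleton (EtCoh.H (FEt.puncturedSpec R).toScheme G 1) :=
    haveI := EtAcycX.subsingleton_H_henselian R C 0
    hb.2.subsingleton
  haveI hs1 : Subsingleton (EtCoh.H (Spec (CommRingCat.of K)) ((EtCoh.pull e.hom).obj G) 1) :=
    (Groth.Agent.S0642.result e.hom G 1).2.subsingleton
  have hK : (ℓ : K) ≠ 0 := by
    rw [← map_natCast (algebraMap R K)]
    exact (hu.map _).ne_zero
  haveI : NeZero (ℓ : ResidueField R) := ⟨by
    rw [← map_natCast (residue R)]
    exact (hu.map _).ne_zero⟩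
  obtain ⟨z, hz⟩ := HasEnoughRootsOfUnity.exists_primitiveRoot (ResidueField R) ℓ
  obtain ⟨ζ, hζ⟩ := EtPBC.exists_primitiveRoot_lift ℓ R hu z hz
  obtain ⟨iμ⟩ := EtPBC.nonempty_mu_iso_const_spec ℓ K hK _ (hζ.map_of_injective (IsFractionRing.injective R K))
  let iso : (EtCoh.pull e.hom).obj G ≅ EtCoh.mu (Spec (CommRingCat.of K)) ℓ :=
    (EtCoh.pull e.hom).mapIso (EtCons.pullConstM (FEt.puncturedSpec R).ι (ZMod ℓ)) ≪≫
      EtCons.pullConstM e.hom (ZMod ℓ) ≪≫ iμ.symm
  haveI : Subsingleton (EtCoh.H (Spec (CommRingCat.of K)) (EtCoh.mu (Spec (CommRingCat.of K)) ℓ) 1) :=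
    haveI : Subsingleton ((EtCoh.HF (Spec (CommRingCat.of K)) 1).obj ((EtCoh.pull e.hom).obj G)) := hs1
    ((EtCoh.HF (Spec (CommRingCat.of K)) 1).mapIso iso.symm).addCommGroupIsoToAddEquiv.toEquiv.subsingleton
  let X := Spec (CommRingCat.of K)
  have hu' : IsUnit (ℓ : Γ(X, ⊤)) := by
    rw [← map_natCast (Scheme.ΓSpecIso (CommRingCat.of K)).inv.hom]
    exact (IsUnit.mk0 _ hK).map _
  have hm : Epi (EtCoh.powMap X ℓ) := Groth.Agent.S0108.result X ℓ hu'
  obtain ⟨ϖ, hϖ⟩ := IsDiscreteValuationRing.exists_irreducible R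
  have hπ0 : algebraMap R K ϖ ≠ 0 := (map_ne_zero_iff _ (IsFractionRing.injective R K)).2 hϖ.ne_zero
  obtain ⟨b, hb⟩ := EtPBC.exists_pow_eq_of_kumClass_eq_zero ℓ K hm (Units.mk0 _ hπ0) (Subsingleton.elim _ _)
  have hint : IsIntegral R b := IsIntegral.of_pow hℓ.pos (hb ▸ isIntegral_algebraMap)
  obtain ⟨c, rfl⟩ := IsIntegrallyClosed.isIntegral_iff.1 hint
  exact not_irreducible_pow hℓ.ne_one ((show c ^ ℓ = ϖ from
    IsFractionRing.injective R K (by rw [map_pow]; exact hb)) ▸ hϖ)

end Local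

/-- the depth of the constant sheaf is exactly twice the dimension -/
def NS (ℓ : ℕ) (X : Scheme.{u}) : Prop :=
  ∀ (x : X) (d : ℕ), ringKrullDim (X.presheaf.stalk x) = d → ¬ DepthAtGE X (EtCoh.const X (ZMod ℓ)) x (2 * d + 1)

theorem ns_of_weaklyEtale {X' X : Scheme.{u}} (e : X' ⟶ X) [WeaklyEtale e] {ℓ : ℕ} (h : NS ℓ X) : NS ℓ X' := by
  intro x d hd h1
  let Q := mkSH X' x
  obtain ⟨aQ, lQ, sQ, -⟩ := EtAcycX.exists_push_SH e Q
  letI := aQ
  haveI := lQ
  haveI := sQ
  refine h (e x) d ?_ (depthAtGE_of_SH ({ R := Q.R, alg := aQ, lh := lQ, sh := sQ } : SH X (e x)) ?_)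
  · exact ((Hensel.strictHenselization_ringKrullDim (X.presheaf.stalk (e x)) Q.R).symm.trans
      (Hensel.strictHenselization_ringKrullDim (X'.presheaf.stalk x) Q.R)).trans hd
  · exact depthGE_of_iso _ (EtCons.pullConstM _ (ZMod ℓ)).symm ((depthAtGE_const_iff x ℓ _).1 h1 Q.R)

theorem not_depthAtGE_one {X : Scheme.{u}} (x : X) (h : ringKrullDim (X.presheaf.stalk x) ≤ 0) {ℓ : ℕ}
    (hℓ : 1 < ℓ) : ¬ DepthAtGE X (EtCoh.const X (ZMod ℓ)) x 1 := fun h1 => by
  let Q := mkSH X x
  haveI := Q.sh.henselian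
  haveI : IsSepClosed (ResidueField Q.R) := Q.sh.isSepClosure.1
  exact not_depthGE_one_of_dim_zero Q.R hℓ
    ((Hensel.strictHenselization_ringKrullDim (X.presheaf.stalk x) Q.R).le.trans h)
    ((depthAtGE_const_iff x ℓ _).1 h1 Q.R)

theorem ns_of_dim_zero {X : Scheme.{u}} {ℓ : ℕ} (hℓ : 1 < ℓ) (h : ∀ x : X, ringKrullDim (X.presheaf.stalk x) ≤ 0) :
    NS ℓ X := fun x d hd => by
  obtain rfl : d = 0 := by
    have h1 := h x
    rw [hd] at h1
    exact_mod_cast Nat.le_zero.1 (by exact_mod_cast h1)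
  exact not_depthAtGE_one x (h x) hℓ

/-- regular points of dimension one -/
theorem not_depthAtGE_three {X : Scheme.{u}} (x : X) (hreg : IsRegularLocalRing (X.presheaf.stalk x))
    (hdim : ringKrullDim (X.presheaf.stalk x) = 1) {ℓ : ℕ} (hℓ : ℓ.Prime) (hn : (ℓ : X.residueField x) ≠ 0) :
    ¬ DepthAtGE X (EtCoh.const X (ZMod ℓ)) x 3 := fun h => by
  let Q := mkSH X x
  haveI := Q.sh.henselian
  haveI : IsSepClosed (ResidueField Q.R) := Q.sh.isSepClosure.1
  haveI := hreg
  haveI : IsRegularLocalRing Q.R :=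
    (Hensel.strictHenselization_isRegularLocalRing_iff (R := X.presheaf.stalk x) (S := Q.R)).2 hreg
  have hd : ringKrullDim Q.R = 1 :=
    (Hensel.strictHenselization_ringKrullDim (X.presheaf.stalk x) Q.R).trans hdim
  haveI : IsDomain Q.R := S0558.result Q.R
  have hsf : (maximalIdeal Q.R).spanFinrank = 1 := by
    have := IsRegularLocalRing.spanFinrank_maximalIdeal (R := Q.R)
    rw [hd] at this
    exact_mod_cast this
  obtain ⟨s, hs, hspan⟩ := Submodule.FG.exists_span_set_encard_eq_spanFinrank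
    (IsNoetherian.noetherian (maximalIdeal Q.R))
  rw [hsf, Nat.cast_one, Set.encard_eq_one] at hs
  obtain ⟨t, rfl⟩ := hs
  have ht : ¬ IsNilpotent t := fun hn => by
    obtain rfl : t = 0 := IsReduced.eq_zero t hn
    have hf : IsField Q.R := IsLocalRing.isField_iff_maximalIdeal_eq.2 (by rw [← hspan]; simp)
    rw [ringKrullDim_eq_zero_of_isField hf] at hd
    exact zero_ne_one hd
  obtain ⟨_, hdvr⟩ := AffDiv.isDVR_of_principal t hspan.symm ht
  haveI := hdvr
  refine not_depthGE_three_of_dvr Q.R hℓ ?_ ((depthAtGE_const_iff x ℓ _).1 h Q.R)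
  have h1 : IsUnit (ℓ : X.presheaf.stalk x) := by
    by_contra hnu
    refine hn ?_
    rw [← map_natCast (X.residue x).hom]
    exact (residue_eq_zero_iff _).2 ((mem_maximalIdeal _).2 hnu)
  simpa using h1.map (algebraMap (X.presheaf.stalk x) Q.R)

/-- one relative dimension, exactness -/
theorem ns_step {X S : Scheme.{u}} (f : X ⟶ S) [Smooth f] [IsLocallyNoetherian X] [IsLocallyNoetherian S]
    (hdim : ∀ x : X, ringKrullDim (_root_.CInt.fiberStalk f x) ≤ 1) {ℓ : ℕ} (hℓ : ℓ.Prime)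
    (hn : ∀ x : X, (ℓ : X.residueField x) ≠ 0) (hsp : SP ℓ S) (h : NS ℓ S) : NS ℓ X := by
  intro x d hd hX
  obtain ⟨a, ha, -⟩ := DimFormula.exists_ringKrullDim_stalk (f x)
  haveI : IsLocallyNoetherian (f.fiber (f x)) :=
    haveI : LocallyOfFiniteType (f.fiberToSpecResidueField (f x)) :=
      MorphismProperty.pullback_snd _ _ inferInstance
    LocallyOfFiniteType.isLocallyNoetherian (f.fiberToSpecResidueField (f x))
  obtain ⟨e, he, -⟩ := DimFormula.exists_ringKrullDim_stalk (f.asFiber x)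
  have he1 : e ≤ 1 := by
    have := hdim x
    erw [he] at this
    exact_mod_cast this
  rw [CInt.ringKrullDim_stalk_eq_add f x, ha] at hd
  erw [he] at hd
  obtain rfl : a + e = d := by exact_mod_cast hd
  haveI : Smooth (f.fiberToSpecResidueField (f x)) := MorphismProperty.pullback_snd _ _ inferInstance
  have hreg := SmLocalST.isRegularLocalRing_stalk_of_smooth_field (f.fiberToSpecResidueField (f x)) (f.asFiber x)
  have hq : DepthAtGE (f.fiber (f x)) (EtCoh.const _ (ZMod ℓ)) (f.asFiber x) (2 * e) ∧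
      ¬ DepthAtGE (f.fiber (f x)) (EtCoh.const _ (ZMod ℓ)) (f.asFiber x) (2 * e + 1) := by
    obtain rfl | rfl : e = 0 ∨ e = 1 := by omega
    · exact ⟨fun R _ _ _ _ _ => depthGE_zero _ _, not_depthAtGE_one _ (le_of_eq (by erw [he]; rfl)) hℓ.one_lt⟩
    · refine ⟨depthAtGE_two_of_regular _ hreg (le_of_eq (by erw [he]; norm_cast)) ℓ hℓ.pos,
        not_depthAtGE_three _ hreg (by erw [he]; norm_cast) hℓ fun h0 => ?_⟩
      let g := (f.fiberι (f x)).residueFieldMap (f.asFiber x)
      have h2 := hn ((f.fiberι (f x)) (f.asFiber x))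
      exact h2 (g.hom.injective (by rw [map_natCast, map_zero]; exact h0))
  refine not_depthAtGE_pull f x inferInstance hℓ _ (isLTorsion_const hℓ)
    (isLocAcyclicLE_smooth f hℓ hn (2 * (a + e))) (hsp (f x) a ha.ge) (h (f x) a ha) (f.asFiber x)
    (f.fiberι_asFiber x) hq.1 hq.2 (by omega) (depthAtGE_of_iso (EtCons.pullConstM f (ZMod ℓ)).symm ?_)
  rwa [show 2 * a + 2 * e + 1 = 2 * (a + e) + 1 by omega]

theorem ns_mvPolynomial (R : Type u) [CommRing R] [IsNoetherianRing R] {ℓ : ℕ} (hℓ : ℓ.Prime) (hn : IsUnit (ℓ : R))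
    (hsp : SP ℓ (Spec (CommRingCat.of R))) (h : NS ℓ (Spec (CommRingCat.of R))) :
    ∀ N : ℕ, NS ℓ (Spec (CommRingCat.of (MvPolynomial (Fin N) R))) := by
  intro N
  induction N with
  | zero =>
    let e : CommRingCat.of (MvPolynomial (Fin 0) R) ≅ CommRingCat.of R :=
      (MvPolynomial.isEmptyAlgEquiv R (Fin 0)).toRingEquiv.toCommRingCatIso
    exact ns_of_weaklyEtale (Spec.map e.inv) h
  | succ N ih =>
    let A := MvPolynomial (Fin N) R
    let e : CommRingCat.of (MvPolynomial (Fin (N + 1)) R) ≅ CommRingCat.of (Polynomial A) :=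
      (MvPolynomial.finSuccEquiv R N).toRingEquiv.toCommRingCatIso
    haveI : Smooth (Spec.map (CommRingCat.ofHom (Polynomial.C (R := A)))) := by
      rw [HasRingHomProperty.Spec_iff (P := @Smooth)]
      exact RingHom.smooth_algebraMap.2 (⟨inferInstance, inferInstance⟩ : Algebra.Smooth A (Polynomial A))
    refine ns_of_weaklyEtale (Spec.map e.inv) (ns_step (Spec.map (CommRingCat.ofHom (Polynomial.C (R := A))))
      (ringKrullDim_fiberStalk_polynomial A) hℓ (fun x => ?_) (sp_mvPolynomial R hℓ hn hsp N) ih)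
    refine natCast_ne_zero_of_isUnit ?_ x
    have h2 := ((hn.map (algebraMap R A)).map (Polynomial.C (R := A))).map
      (Scheme.ΓSpecIso (CommRingCat.of (Polynomial A))).inv.hom
    simpa using h2

end Groth.Agent.EtDepthX
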