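import Groth.Agent.EtDepthX.Exact
import Groth.Agent.EtDepthX.SemiPur
import Mathlib

/-!
# The depth of the constant sheaf on smooth schemes is exactly twice the dimension
-/

set_option autoImplicit false
set_option backward.isDefEq.respectTransparency false
set_option backward.isDefEq.respectTransparency.types false
set_option linter.unusedSectionVars false
set_option linter.style.haveILetI false
set_option linter.overlappingInstances false
set_option maxHeartbeats 1000000
set_option synthInstance.maxHeartbeats 400000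

universe u

open CategoryTheory CategoryTheory.Limits CategoryTheory.Abelian AlgebraicGeometry Opposite IsLocalRing

noncomputable section

namespace Groth.Agent.EtDepthX

attribute [local instance 100000] EtCoh.H._proof_1 Groth.Agent.EtMV.hext
attribute [local instance 200000] Groth.Agent.EtMV.hextAb

open EtDepth (DepthGE DepthAtGE IsLocAcyclicLE)
open EtBCQ (SH mkSH)

/-- the depth at a point is that of any strict localisation -/
theorem depthAtGE_of_SH {X : Scheme.{u}} {F : EtCoh.Ab X} {x : X} {n : ℕ} (Q : SH X x)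
    (h : DepthGE (FEt.puncturedSpec Q.R).ι ((EtCoh.pull Q.spec).obj F) n) : DepthAtGE X F x n := by
  intro R _ _ _ _ hR
  haveI := hR.henselian
  haveI : IsSepClosed (ResidueField R) := hR.isSepClosure.1
  haveI := Q.sh.henselian
  haveI : IsSepClosed (ResidueField Q.R) := Q.sh.isSepClosure.1
  let P : SH X x := { R := R }
  obtain ⟨ψ, hl, hψ⟩ := EtBCQ.exists_strict_hom Q P.spec P.spec_closed
  haveI := hl
  have hb := LAcyc.bijective_SH_hom Q P ψ hψ
  refine depthGE_of_iso _ ((EtMV.ψ (Spec.map (CommRingCat.ofHom ψ)) Q.spec P.spec hψ).app F)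
    (depthGE_pull_of_support ψ hb.2 _ (fun y hy => absurd ?_ hy) n h)
  let e := (RingEquiv.ofBijective ψ hb).symm
  refine ⟨Spec.map (CommRingCat.ofHom e.toRingHom) y, ?_⟩
  rw [← Scheme.Hom.comp_apply, ← Spec.map_comp, ← CommRingCat.ofHom_comp,
    show e.toRingHom.comp ψ = RingHom.id _ from RingHom.ext fun a => e.apply_symm_apply a ▸
      (RingEquiv.ofBijective ψ hb).symm_apply_apply a]
  simp

/-- **exact additivity of depth at points** -/
theorem not_depthAtGE_pull {X S : Scheme.{u}} (f : X ⟶ S) (x : X) (hx : IsNoetherianRing (X.presheaf.stalk x))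
    {ℓ : ℕ} (hℓ : ℓ.Prime) {m p q : ℕ} (F : EtCoh.Ab S) (hF : EtDepth.IsLTorsion ℓ F)
    (hf : IsLocAcyclicLE f ℓ m) (hp : DepthAtGE S F (f.base x) p) (hp' : ¬ DepthAtGE S F (f.base x) (p + 1))
    (x' : ↥(f.fiber (f.base x))) (hx' : (f.fiberι (f.base x)) x' = x)
    (hq : DepthAtGE (f.fiber (f.base x)) (EtCoh.const (f.fiber (f.base x)) (ZMod ℓ)) x' q)
    (hq' : ¬ DepthAtGE (f.fiber (f.base x)) (EtCoh.const (f.fiber (f.base x)) (ZMod ℓ)) x' (q + 1))
    (hn : p + q + 1 ≤ m + 2) :
    ¬ DepthAtGE X ((EtCoh.pull f).obj F) x (p + q + 1) := by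
  intro h
  obtain ⟨R, _, _, _, _, hR⟩ := EtBCQ.exists_sh (X.presheaf.stalk x)
  haveI := hR
  haveI := hR.henselian
  haveI : IsSepClosed (ResidueField R) := hR.isSepClosure.1
  obtain ⟨D⟩ := nonempty_strictData f x hℓ hf x' hx' R
  haveI := D.hψl
  haveI := D.QS.sh.henselian
  haveI : IsSepClosed (ResidueField D.QS.R) := D.QS.sh.isSepClosure.1
  haveI := D.sh.henselian
  haveI : IsSepClosed (ResidueField D.RZ) := D.sh.isSepClosure.1
  haveI : IsNoetherianRing R :=
    (Hensel.strictHenselization_isNoetherianRing_iff (R := X.presheaf.stalk x) (S := R)).1 hx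
  haveI : IsNoetherianRing D.RZ := isNoetherianRing_of_surjective R D.RZ D.g D.hg
  let e := EtCons.pullConstM (Hens2.specOf (f.fiber (f.base x)) x' D.RZ) (ZMod ℓ)
  refine not_depthGE_pull_local D.ψ D.g D.hg D.τ D.hτ D.hfib D.hsurj hℓ D.hla (depthGE_of_iso _ e (hq D.RZ))
    (fun h1 => hq' (depthAtGE_of_SH ({ R := D.RZ } : SH _ x') (depthGE_of_iso _ e.symm h1))) p _
    (EtAcycX.isLTorsion_pull _ ((isLTorsion_iff hℓ F).1 hF)) (hp D.QS.R)
    (fun h1 => hp' (depthAtGE_of_SH D.QS h1)) hn (depthGE_of_iso _ ?_ (h R))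
  exact (EtMV.ψ (Hens2.specOf X x R) f (Hens2.specOf X x R ≫ f) rfl).app F ≪≫
    ((EtMV.ψ (Spec.map (CommRingCat.ofHom D.ψ)) D.QS.spec _ D.hψ).app F).symm

end Groth.Agent.EtDepthX
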