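import Groth.Agent.EtDepthX.SemiPurDim
import Mathlib

/-!
# Semi-purity for smooth schemes over a base
-/

set_option autoImplicit false
set_option backward.isDefEq.respectTransparency false
set_option backward.isDefEq.respectTransparency.types false
set_option linter.unusedSectionVars false
set_option linter.style.haveILetI false
set_option linter.overlappingInstances false
set_option maxHeartbeats 1000000
set_option synthInstance.maxHeartbeats 400000

universe u

open CategoryTheory CategoryTheory.Limits CategoryTheory.Abelian AlgebraicGeometry Opposite IsLocalRing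

noncomputable section

namespace Groth.Agent.EtDepthX

attribute [local instance 100000] EtCoh.H._proof_1 Groth.Agent.EtMV.hext
attribute [local instance 200000] Groth.Agent.EtMV.hextAb

open EtDepth (DepthGE DepthAtGE)
open EtBCQ (SH mkSH)

/-- depth of the constant sheaf at a point only depends on étale neighbourhoods -/
theorem depthAtGE_const_weaklyEtale_iff {X' X : Scheme.{u}} (e : X' ⟶ X) [WeaklyEtale e] (u : X') (ℓ n : ℕ) :
    (DepthAtGE X' (EtCoh.const X' (ZMod ℓ)) u n ↔ DepthAtGE X (EtCoh.const X (ZMod ℓ)) (e u) n) ∧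
      ringKrullDim (X'.presheaf.stalk u) = ringKrullDim (X.presheaf.stalk (e u)) := by
  let Q := mkSH X' u
  obtain ⟨aQ, lQ, sQ, -⟩ := EtAcycX.exists_push_SH e Q
  letI := aQ
  haveI := lQ
  haveI := sQ
  refine ⟨⟨fun h => depthAtGE_of_SH ({ R := Q.R, alg := aQ, lh := lQ, sh := sQ } : SH X (e u)) ?_,
    fun h => depthAtGE_of_SH Q ?_⟩, ?_⟩
  · exact depthGE_of_iso _ (EtCons.pullConstM _ (ZMod ℓ)).symm ((depthAtGE_const_iff u ℓ _).1 h Q.R)
  · exact depthGE_of_iso _ (EtCons.pullConstM _ (ZMod ℓ)).symm ((depthAtGE_const_iff (e u) ℓ _).1 h Q.R)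
  · exact (Hensel.strictHenselization_ringKrullDim (X'.presheaf.stalk u) Q.R).symm.trans
      (Hensel.strictHenselization_ringKrullDim (X.presheaf.stalk (e u)) Q.R)

/-- **semi-purity is inherited by smooth schemes and is sharp** -/
theorem sp_ns_smooth {X S : Scheme.{u}} (f : X ⟶ S) [Smooth f] [IsLocallyNoetherian S] {ℓ : ℕ} (hℓ : ℓ.Prime)
    (hn : IsUnit (ℓ : Γ(S, ⊤))) (hsp : SP ℓ S) : SP ℓ X ∧ (NS ℓ S → NS ℓ X) := by
  suffices key : ∀ x : X, ∃ (U : Scheme.{u}) (ι : U ⟶ X) (_ : WeaklyEtale ι) (u : U), ι u = x ∧ SP ℓ U ∧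
      (NS ℓ S → NS ℓ U) by
    refine ⟨fun x d hd => ?_, fun hns x d hd h => ?_⟩
    · obtain ⟨U, ι, _, u, rfl, hU, -⟩ := key x
      obtain ⟨h1, h2⟩ := depthAtGE_const_weaklyEtale_iff ι u ℓ (2 * d)
      exact h1.1 (hU u d (h2 ▸ hd))
    · obtain ⟨U, ι, _, u, rfl, -, hU⟩ := key x
      obtain ⟨h1, h2⟩ := depthAtGE_const_weaklyEtale_iff ι u ℓ (2 * d + 1)
      exact hU hns u d (h2.trans hd) (h1.2 h)
  intro x
  obtain ⟨W, hW, V, hV, hxV, e, hstd⟩ := Smooth.exists_isStandardSmooth f x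
  obtain ⟨N, g, hg, het⟩ := RingHom.IsStandardSmooth.exists_etale_mvPolynomial hstd
  obtain ⟨u, hu⟩ : x ∈ Set.range hV.fromSpec := hV.range_fromSpec.ge hxV
  haveI : IsLocallyNoetherian (Spec Γ(S, W)) := isLocallyNoetherian_of_isOpenImmersion hW.fromSpec
  haveI : IsNoetherianRing Γ(S, W) := IsLocallyNoetherian.component_noetherian (⟨W, hW⟩ : S.affineOpens)
  have hnW : IsUnit (ℓ : Γ(S, W)) := by
    simpa using hn.map (S.presheaf.map (homOfLE le_top : W ⟶ ⊤).op).hom
  have hspW : SP ℓ (Spec (CommRingCat.of Γ(S, W))) := sp_of_weaklyEtale hW.fromSpec hsp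
  haveI : Etale (Spec.map (CommRingCat.ofHom g)) := (HasRingHomProperty.Spec_iff (P := @Etale)).2 het
  exact ⟨Spec Γ(X, V), hV.fromSpec, inferInstance, u, hu,
    sp_of_weaklyEtale (Spec.map (CommRingCat.ofHom g)) (sp_mvPolynomial _ hℓ hnW hspW N),
    fun hns => ns_of_weaklyEtale (Spec.map (CommRingCat.ofHom g))
      (ns_mvPolynomial _ hℓ hnW hspW (ns_of_weaklyEtale hW.fromSpec hns) N)⟩

theorem dim_stalk_field (k : Type u) [Field k] (z : Spec (CommRingCat.of k)) :
    ringKrullDim ((Spec (CommRingCat.of k)).presheaf.stalk z) ≤ 0 := by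
  refine (DimFormula.ringKrullDim_stalk_le_iff (X := Spec (CommRingCat.of k)) z (k := 0)).2 fun n c hc hlast => ?_
  by_contra hn
  exact (hc ⟨0, by omega⟩).2 (Subsingleton.elim (α := PrimeSpectrum k) _ _)

theorem isUnit_natCast_field {k : Type u} [Field k] {ℓ : ℕ} (h : (ℓ : k) ≠ 0) :
    IsUnit (ℓ : Γ(Spec (CommRingCat.of k), ⊤)) := by
  rw [← map_natCast (Scheme.ΓSpecIso (CommRingCat.of k)).inv.hom]
  exact (IsUnit.mk0 _ h).map _

/-- smooth schemes over a field -/
theorem sp_smooth_field {k : Type u} [Field k] {X : Scheme.{u}} (f : X ⟶ Spec (CommRingCat.of k)) [Smooth f]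
    {ℓ : ℕ} (hℓ : ℓ.Prime) (hn : (ℓ : k) ≠ 0) : SP ℓ X :=
  (sp_ns_smooth f hℓ (isUnit_natCast_field hn) (sp_of_dim_zero ℓ (dim_stalk_field k))).1

theorem ns_smooth_field {k : Type u} [Field k] {X : Scheme.{u}} (f : X ⟶ Spec (CommRingCat.of k)) [Smooth f]
    {ℓ : ℕ} (hℓ : ℓ.Prime) (hn : (ℓ : k) ≠ 0) : NS ℓ X :=
  (sp_ns_smooth f hℓ (isUnit_natCast_field hn) (sp_of_dim_zero ℓ (dim_stalk_field k))).2
    (ns_of_dim_zero hℓ.one_lt (dim_stalk_field k))

end Groth.Agent.EtDepthX
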