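import Groth.Agent.EtDepthX.Core
import Groth.Agent.EtPBC.CdDimLoc
import Groth.Agent.EtAcycX.Fibres
import Groth.Agent.EtAcycX.EtRestLA
import Groth.Agent.EtAcycX.GeomFib
import Groth.Agent.Hensel.HenselizationNoeth
import Groth.Agent.EtCons.PullFLC
import Mathlib

/-!
# Depth of inverse images along locally acyclic maps
-/

set_option autoImplicit false
set_option backward.isDefEq.respectTransparency false
set_option backward.isDefEq.respectTransparency.types false
set_option linter.unusedSectionVars false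
set_option linter.style.haveILetI false
set_option linter.overlappingInstances false
set_option maxHeartbeats 1000000
set_option synthInstance.maxHeartbeats 400000

universe u

open CategoryTheory CategoryTheory.Limits CategoryTheory.Abelian AlgebraicGeometry Opposite IsLocalRing
open scoped TensorProduct

noncomputable section

namespace Groth.Agent.EtDepthX

attribute [local instance 100000] EtCoh.H._proof_1 Groth.Agent.EtMV.hext
attribute [local instance 200000] Groth.Agent.EtMV.hextAb

open EtDepth (DepthGE DepthAtGE IsLocAcyclicLE)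
open EtBCQ (SH mkSH)

/-- strict henselisations of the points of an immersed subscheme -/
theorem exists_sh_preimmersion {Z X : Scheme.{u}} (ι : Z ⟶ X) [IsPreimmersion ι] (z : Z) (R : Type u)
    [CommRing R] [IsLocalRing R] [Algebra (X.presheaf.stalk (ι z)) R]
    [IsLocalHom (algebraMap (X.presheaf.stalk (ι z)) R)]
    [_root_.Hensel.IsStrictHenselization (X.presheaf.stalk (ι z)) R] :
    ∃ (B : Type u) (_ : CommRing B) (_ : IsLocalRing B) (alg : Algebra (Z.presheaf.stalk z) B)
      (_ : IsLocalHom (algebraMap (Z.presheaf.stalk z) B)) (φ : R →+* B),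
      Function.Surjective φ ∧ _root_.Hensel.IsStrictHenselization (Z.presheaf.stalk z) B ∧
      Spec.map (CommRingCat.ofHom φ) ≫ Hens2.specOf X (ι z) R = Hens2.specOf Z z B ≫ ι ∧
      ∀ P : Spec (CommRingCat.of R), Hens2.specOf X (ι z) R P ∈ Set.range ι →
        P ∈ Set.range (Spec.map (CommRingCat.ofHom φ)) := by
  let f : X.presheaf.stalk (ι z) →+* Z.presheaf.stalk z := (ι.stalkMap z).hom
  have hf : Function.Surjective f := ι.stalkMap_surjective z
  let I := RingHom.ker f
  have hIne : I ≠ ⊤ := RingHom.ker_ne_top f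
  have hJne : I.map (algebraMap (X.presheaf.stalk (ι z)) R) ≠ ⊤ := fun h => by
    have h2 : I.map (algebraMap (X.presheaf.stalk (ι z)) R) ≤ maximalIdeal R :=
      (Ideal.map_mono (le_maximalIdeal hIne)).trans (((local_hom_TFAE (algebraMap (X.presheaf.stalk (ι z)) R)).out 0 2).1 ‹_›)
    exact (maximalIdeal.isMaximal R).ne_top (top_le_iff.1 (h ▸ h2))
  haveI : Nontrivial (X.presheaf.stalk (ι z) ⧸ I) := Ideal.Quotient.nontrivial_iff.2 hIne
  haveI : IsLocalRing (X.presheaf.stalk (ι z) ⧸ I) := IsLocalRing.of_surjective' _ Ideal.Quotient.mk_surjective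
  let B := R ⧸ I.map (algebraMap (X.presheaf.stalk (ι z)) R)
  haveI : Nontrivial B := Ideal.Quotient.nontrivial_iff.2 hJne
  haveI : IsLocalRing B := IsLocalRing.of_surjective' _ Ideal.Quotient.mk_surjective
  haveI : IsLocalHom (algebraMap (X.presheaf.stalk (ι z) ⧸ I) B) := ⟨fun x hx => by
    obtain ⟨a, rfl⟩ := Ideal.Quotient.mk_surjective x
    have h1 : IsUnit (Ideal.Quotient.mk _ (algebraMap (X.presheaf.stalk (ι z)) R a) : B) := hx
    haveI : IsLocalHom (Ideal.Quotient.mk (I.map (algebraMap (X.presheaf.stalk (ι z)) R))) :=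
      IsLocalHom.of_surjective _ Ideal.Quotient.mk_surjective
    exact ((h1.of_map (Ideal.Quotient.mk _) _).of_map (algebraMap _ R) a).map _⟩
  haveI := Hensel.isStrictHenselization_quotient (A := X.presheaf.stalk (ι z)) (S := R) I
  let e : (X.presheaf.stalk (ι z) ⧸ I) ≃+* Z.presheaf.stalk z := RingHom.quotientKerEquivOfSurjective hf
  letI : Algebra (X.presheaf.stalk (ι z) ⧸ I) (Z.presheaf.stalk z) := e.toRingHom.toAlgebra
  letI alg : Algebra (Z.presheaf.stalk z) B :=
    ((algebraMap (X.presheaf.stalk (ι z) ⧸ I) B).comp e.symm.toRingHom).toAlgebra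
  haveI : IsScalarTower (X.presheaf.stalk (ι z) ⧸ I) (Z.presheaf.stalk z) B :=
    IsScalarTower.of_algebraMap_eq fun a => by
      show _ = algebraMap _ B (e.symm (e a))
      rw [e.symm_apply_apply]
  haveI hloc : IsLocalHom (algebraMap (Z.presheaf.stalk z) B) := ⟨fun x hx => by
    have h1 := (IsUnit.of_map (algebraMap (X.presheaf.stalk (ι z) ⧸ I) B) (e.symm x) hx).map e
    rwa [e.apply_symm_apply] at h1⟩
  refine ⟨B, inferInstance, inferInstance, alg, hloc, Ideal.Quotient.mk _, Ideal.Quotient.mk_surjective,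
    EtPBC.isStrictHenselization_of_bijective (A := X.presheaf.stalk (ι z) ⧸ I) e.bijective, ?_, fun P hP => ?_⟩
  swap
  · obtain ⟨w, hw⟩ := hP
    have hw1 : w ⤳ z := ι.isEmbedding.isInducing.specializes_iff.1 (hw ▸ specOf_specializes (ι z) R P)
    obtain ⟨Q, hQ⟩ : w ∈ Set.range (Z.fromSpecStalk z) := by rw [Scheme.range_fromSpecStalk]; exact hw1
    have h1 : X.fromSpecStalk (ι z) (Spec.map (ι.stalkMap z) Q) =
        X.fromSpecStalk (ι z) (Spec.map (CommRingCat.ofHom (algebraMap (X.presheaf.stalk (ι z)) R)) P) := by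
      rw [← Scheme.Hom.comp_apply, Scheme.SpecMap_stalkMap_fromSpecStalk, Scheme.Hom.comp_apply, hQ, hw]
      rfl
    have h2 := (X.fromSpecStalk (ι z)).isEmbedding.injective h1
    have h3 : I.map (algebraMap (X.presheaf.stalk (ι z)) R) ≤ P.asIdeal := by
      rw [Ideal.map_le_iff_le_comap]
      intro a ha
      have h4 : f a ∈ Q.asIdeal := by rw [show f a = 0 from ha]; exact Q.asIdeal.zero_mem
      have h5 : a ∈ (Spec.map (ι.stalkMap z) Q).asIdeal := h4
      rw [h2] at h5
      exact h5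
    refine ⟨⟨P.asIdeal.map (Ideal.Quotient.mk _), Ideal.map_isPrime_of_surjective Ideal.Quotient.mk_surjective
      (by rwa [Ideal.mk_ker])⟩, PrimeSpectrum.ext ?_⟩
    show Ideal.comap (Ideal.Quotient.mk _) (P.asIdeal.map (Ideal.Quotient.mk _)) = P.asIdeal
    rw [Ideal.comap_map_of_surjective _ Ideal.Quotient.mk_surjective, ← RingHom.ker_eq_comap_bot, Ideal.mk_ker,
      sup_eq_left.2 h3]
  have key : (algebraMap (Z.presheaf.stalk z) B).comp f =
      (Ideal.Quotient.mk _).comp (algebraMap (X.presheaf.stalk (ι z)) R) := RingHom.ext fun a => by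
    show algebraMap (X.presheaf.stalk (ι z) ⧸ I) B (e.symm (f a)) = _
    have h1 : e (Ideal.Quotient.mk I a) = f a := rfl
    rw [← h1, e.symm_apply_apply]
    rfl
  show Spec.map (CommRingCat.ofHom _) ≫ Spec.map (CommRingCat.ofHom _) ≫ X.fromSpecStalk (ι z) =
    (Spec.map (CommRingCat.ofHom _) ≫ Z.fromSpecStalk z) ≫ ι
  rw [Category.assoc, ← Scheme.SpecMap_stalkMap_fromSpecStalk, ← Spec.map_comp_assoc, ← Spec.map_comp_assoc,
    ← CommRingCat.ofHom_comp, ← key]
  rfl

theorem exists_sh_preimmersion' {Z X : Scheme.{u}} (ι : Z ⟶ X) [IsPreimmersion ι] {z : Z} {x : X} (hz : ι z = x)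
    (R : Type u) [CommRing R] [IsLocalRing R] [Algebra (X.presheaf.stalk x) R]
    [IsLocalHom (algebraMap (X.presheaf.stalk x) R)] [_root_.Hensel.IsStrictHenselization (X.presheaf.stalk x) R] :
    ∃ (B : Type u) (_ : CommRing B) (_ : IsLocalRing B) (_ : Algebra (Z.presheaf.stalk z) B)
      (_ : IsLocalHom (algebraMap (Z.presheaf.stalk z) B)) (φ : R →+* B),
      Function.Surjective φ ∧ _root_.Hensel.IsStrictHenselization (Z.presheaf.stalk z) B ∧
      Spec.map (CommRingCat.ofHom φ) ≫ Hens2.specOf X x R = Hens2.specOf Z z B ≫ ι ∧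
      ∀ P : Spec (CommRingCat.of R), Hens2.specOf X x R P ∈ Set.range ι →
        P ∈ Set.range (Spec.map (CommRingCat.ofHom φ)) := by
  subst hz
  exact exists_sh_preimmersion ι z R

/-- constant-coefficient local acyclicity gives acyclic geometric fibres -/
theorem onStrict_of_isLocAcyclicLE {X S : Scheme.{u}} {f : X ⟶ S} {ℓ m : ℕ} (hℓ : ℓ.Prime)
    (hf : IsLocAcyclicLE f ℓ m) :
    EtAcyc.OnStrictLocalizations f (fun _ _ g => EtAcyc.GeomFibresAcyclicN {ℓ} m g) := by
  intro x RS RX _ _ _ _ _ _ _ _ _ _ _ _ hc y Ω _ _ _ _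
  refine EtAcycX.acyclicScheme_fibre RS RX y Ω fun alg => ?_
  letI := alg
  haveI hsX : _root_.Hensel.IsStrictHenselization (X.presheaf.stalk x) RX := inferInstance
  haveI := hsX.henselian
  haveI : IsSepClosed (ResidueField RX) := hsX.isSepClosure.1
  let a := Spec.map (CommRingCat.ofHom (algebraMap RX (RX ⊗[RS] Ω)))
  haveI := EtCohDesc.pull_preservesFiniteLimits a
  let T := Spec (CommRingCat.of RX)
  let W := Spec (CommRingCat.of (RX ⊗[RS] Ω))
  let e := fun q => ((EtCoh.HF W q).mapIso (EtCons.pullConstM a (ZMod ℓ))).addCommGroupIsoToAddEquiv.toEquiv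
  have hb := fun q (hq : q ≤ m) => (Equiv.ofBijective _ (hf x RS RX hc Ω q hq)).trans (e q)
  have hcard : Nat.card (EtCoh.sect (EtCoh.const W (ZMod ℓ)) (EtCoh.top W)) = Nat.card (ZMod ℓ) := by
    rw [← EtAcycX.card_H_zero]
    exact (Nat.card_congr (hb 0 (Nat.zero_le m))).symm.trans
      ((EtAcycX.card_H_zero_henselian RX _).trans (EtAcycX.card_stalk_const _))
  have h1 : 1 < Nat.card (ZMod ℓ) := by rw [Nat.card_zmod]; exact hℓ.one_lt
  refine ⟨EtAcycX.nonempty_of_card h1 hcard, EtAcycX.connectedSpace_of_card h1 hcard, ?_⟩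
  intro ℓ' _ hmem q hq hqm
  obtain rfl : ℓ' = ℓ := hmem
  obtain ⟨q, rfl⟩ : ∃ k, q = k + 1 := ⟨q - 1, by omega⟩
  exact @Equiv.subsingleton _ _ (hb (q + 1) hqm).symm (EtAcycX.subsingleton_H_henselian RX _ q)

/-- morphisms with acyclic geometric fibres are surjective -/
theorem surjective_of_geomFibres {X S : Scheme.{u}} (f : X ⟶ S) {L : Set ℕ} {m : ℕ}
    (h : EtAcyc.GeomFibresAcyclicN L m f) : Function.Surjective f := fun y => by
  letI : Algebra (S.residueField y) (AlgebraicClosure (S.residueField y)) := inferInstance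
  obtain ⟨w⟩ := (h y (AlgebraicClosure (S.residueField y))).1
  refine ⟨pullback.fst f (EtAcyc.geomPt S y (AlgebraicClosure (S.residueField y))) w, ?_⟩
  rw [← Scheme.Hom.comp_apply, pullback.condition, Scheme.Hom.comp_apply]
  exact (Scheme.Hom.comp_apply _ _ _).trans (Scheme.fromSpecResidueField_apply _ _)

/-- strict localisations of a morphism at a point with its fibre -/
structure StrictData {X S : Scheme.{u}} (f : X ⟶ S) (x : X) (x' : ↥(f.fiber (f.base x))) (R : Type u) [CommRing R]
    [IsLocalRing R] [Algebra (X.presheaf.stalk x) R] (ℓ m : ℕ) where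
  /-- the strict localisation of the base -/
  QS : SH S (f.base x)
  /-- the induced map -/
  ψ : QS.R →+* R
  hψl : IsLocalHom ψ
  hψ : Spec.map (CommRingCat.ofHom ψ) ≫ QS.spec = Hens2.specOf X x R ≫ f
  hsurj : Function.Surjective (Spec.map (CommRingCat.ofHom ψ))
  hla : EtAcyc.IsLocAcyclicN (Spec.map (CommRingCat.ofHom ψ)) {ℓ} m
  /-- the strict localisation of the fibre -/
  RZ : Type u
  [cr : CommRing RZ]
  [lr : IsLocalRing RZ]
  [alg : Algebra ((f.fiber (f.base x)).presheaf.stalk x') RZ]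
  [lh : IsLocalHom (algebraMap ((f.fiber (f.base x)).presheaf.stalk x') RZ)]
  [sh : _root_.Hensel.IsStrictHenselization ((f.fiber (f.base x)).presheaf.stalk x') RZ]
  /-- the closed immersion of the fibre -/
  g : R →+* RZ
  hg : Function.Surjective g
  /-- the structure map of the fibre -/
  τ : ResidueField QS.R →+* RZ
  hτ : g.comp ψ = τ.comp (residue QS.R)
  hfib : ∀ P : Spec (CommRingCat.of R), Spec.map (CommRingCat.ofHom ψ) P = closedPoint QS.R →
    P ∈ Set.range (Spec.map (CommRingCat.ofHom g))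

attribute [instance] StrictData.cr StrictData.lr StrictData.alg StrictData.lh StrictData.sh

theorem nonempty_strictData {X S : Scheme.{u}} (f : X ⟶ S) (x : X) {ℓ : ℕ} (hℓ : ℓ.Prime) {m : ℕ}
    (hf : IsLocAcyclicLE f ℓ m) (x' : ↥(f.fiber (f.base x))) (hx' : (f.fiberι (f.base x)) x' = x) (R : Type u)
    [CommRing R] [IsLocalRing R] [Algebra (X.presheaf.stalk x) R] [IsLocalHom (algebraMap (X.presheaf.stalk x) R)]
    [hR : _root_.Hensel.IsStrictHenselization (X.presheaf.stalk x) R] :
    Nonempty (StrictData f x x' R ℓ m) := by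
  haveI := hR.henselian
  haveI : IsSepClosed (ResidueField R) := hR.isSepClosure.1
  let QX : SH X x := { R := R }
  let QS := mkSH S (f.base x)
  haveI := QS.sh.henselian
  haveI : IsSepClosed (ResidueField QS.R) := QS.sh.isSepClosure.1
  obtain ⟨ψ, hψl, hψ⟩ := EtBCQ.exists_strict_hom QS (QX.spec ≫ f) (by
    rw [Scheme.Hom.comp_apply, QX.spec_closed])
  haveI := hψl
  haveI : WeaklyEtale QX.spec := EtAcycX.weaklyEtale_specOf x R
  haveI : WeaklyEtale QS.spec := EtAcycX.weaklyEtale_specOf (f.base x) QS.R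
  have hstr := onStrict_of_isLocAcyclicLE hℓ hf
  have hsurj := surjective_of_geomFibres _ (EtAcycX.apply_onStrict hstr QS QX ψ hψ)
  have hla : EtAcyc.IsLocAcyclicN (Spec.map (CommRingCat.ofHom ψ)) {ℓ} m :=
    EtAcycX.isLocAcyclicN_of_fibres _ (EtAcycX.onStrict_of_weaklyEtale QX.spec QS.spec hψ.symm hstr)
  let ι := f.fiberι (f.base x)
  let s := f.base x
  have hrS : Spec.map (CommRingCat.ofHom ψ) ≫ Hens2.specOf S s QS.R = Hens2.specOf X x R ≫ f := hψ
  obtain ⟨RZ, _, _, _, _, g, hg, hB, hc, hrange⟩ := exists_sh_preimmersion' ι hx' R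
  haveI := hB.henselian
  haveI : IsSepClosed (ResidueField RZ) := hB.isSepClosure.1
  have hker : ∀ a ∈ maximalIdeal QS.R, g (ψ a) = 0 := by
    have h1 : maximalIdeal QS.R ≤ RingHom.ker (g.comp ψ) := by
      rw [← Hensel.strictHenselization_map_maximalIdeal (R := S.presheaf.stalk s) (S := QS.R),
        Ideal.map_le_iff_le_comap]
      intro a ha
      let μ : S.presheaf.stalk s →+* RZ := (g.comp ψ).comp (algebraMap (S.presheaf.stalk s) QS.R)
      let v := Spec.preimage (Hens2.specOf (f.fiber s) x' RZ ≫ f.fiberToSpecResidueField s)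
      have h2 : Spec.map (CommRingCat.ofHom μ) = Spec.map (S.residue s ≫ v) := by
        rw [← cancel_mono (S.fromSpecStalk s), Spec.map_comp, Category.assoc]
        rw [show Spec.map v = Hens2.specOf (f.fiber s) x' RZ ≫ f.fiberToSpecResidueField s from Spec.map_preimage _,
          Category.assoc]
        refine Eq.trans ?_ (congrArg (Hens2.specOf (f.fiber s) x' RZ ≫ ·) (f.fiber_fac s))
        rw [← Category.assoc (Hens2.specOf (f.fiber s) x' RZ), ← hc, Category.assoc, ← hrS]
        simp only [μ, CommRingCat.ofHom_comp, Spec.map_comp, Hens2.specOf, Category.assoc]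
      show μ a = 0
      rw [show μ a = v.hom ((S.residue s).hom a) from
        RingHom.congr_fun (congrArg CommRingCat.Hom.hom (Spec.map_injective h2)) a,
        show (S.residue s).hom a = 0 from (residue_eq_zero_iff a).2 ha, map_zero]
    exact fun a ha => h1 ha
  exact ⟨{ QS := QS, ψ := ψ, hψl := hψl, hψ := hψ, hsurj := hsurj, hla := hla, RZ := RZ, sh := hB, g := g, hg := hg
           τ := Ideal.Quotient.lift (maximalIdeal QS.R) (g.comp ψ) hker
           hτ := RingHom.ext fun a => rfl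
           hfib := fun P hP => hrange P (by
            rw [Scheme.Hom.range_fiberι]
            show f (Hens2.specOf X x R P) = s
            rw [← Scheme.Hom.comp_apply, ← hrS, Scheme.Hom.comp_apply, hP]
            exact specOf_closed s QS.R) }⟩

/-- **depth at a point of inverse images along locally acyclic maps** -/
theorem depthAtGE_pull {X S : Scheme.{u}} (f : X ⟶ S) (x : X) (hx : IsNoetherianRing (X.presheaf.stalk x))
    {ℓ : ℕ} (hℓ : ℓ.Prime) {m p q : ℕ} (F : EtCoh.Ab S) (hF : EtDepth.IsLTorsion ℓ F)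
    (hf : IsLocAcyclicLE f ℓ m) (hp : DepthAtGE S F (f.base x) p)
    (hq : ∀ x' : ↥(f.fiber (f.base x)), (f.fiberι (f.base x)).base x' = x →
      DepthAtGE (f.fiber (f.base x)) (EtCoh.const (f.fiber (f.base x)) (ZMod ℓ)) x' q) (n : ℕ)
    (hn : n ≤ p + q) (hn' : n ≤ m + 2) :
    DepthAtGE X ((EtCoh.pull f).obj F) x n := by
  intro R _ _ _ _ hR
  haveI := hR.henselian
  haveI : IsSepClosed (ResidueField R) := hR.isSepClosure.1
  obtain ⟨x', hx'⟩ : ∃ x', (f.fiberι (f.base x)) x' = x := ⟨f.asFiber x, f.fiberι_asFiber x⟩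
  obtain ⟨D⟩ := nonempty_strictData f x hℓ hf x' hx' R
  haveI := D.hψl
  haveI := D.QS.sh.henselian
  haveI : IsSepClosed (ResidueField D.QS.R) := D.QS.sh.isSepClosure.1
  haveI := D.sh.henselian
  haveI : IsSepClosed (ResidueField D.RZ) := D.sh.isSepClosure.1
  haveI : IsNoetherianRing R := (Hensel.strictHenselization_isNoetherianRing_iff (R := X.presheaf.stalk x) (S := R)).1 hx
  haveI : IsNoetherianRing D.RZ := isNoetherianRing_of_surjective R D.RZ D.g D.hg
  have hZ := depthGE_of_iso _ (EtCons.pullConstM (Hens2.specOf (f.fiber (f.base x)) x' D.RZ) (ZMod ℓ)) (hq x' hx' D.RZ)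
  refine depthGE_of_iso _ ?_ (depthGE_pull_local D.ψ D.g D.hg D.τ D.hτ D.hfib D.hsurj hℓ D.hla hZ n p _
    (EtAcycX.isLTorsion_pull _ ((isLTorsion_iff hℓ F).1 hF)) (hp D.QS.R) hn hn')
  exact (EtMV.ψ (Spec.map (CommRingCat.ofHom D.ψ)) D.QS.spec _ D.hψ).app F ≪≫
    ((EtMV.ψ (Hens2.specOf X x R) f (Hens2.specOf X x R ≫ f) rfl).app F).symm

end Groth.Agent.EtDepthX
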